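import Groth.Agent.ZBCorrPt.Comp
import Groth.Prelude.Def_AlgEqCyc
import Mathlib.RingTheory.HopkinsLevitzki
import Mathlib.AlgebraicGeometry.AlgClosed.Basic
import Mathlib.AlgebraicGeometry.Morphisms.Proper

/-!
# A family of zero-cycles with vanishing members has no component over the generic point
-/

set_option autoImplicit false
set_option backward.isDefEq.respectTransparency false
set_option backward.isDefEq.respectTransparency.types false

universe u

open CategoryTheory CategoryTheory.Limits AlgebraicGeometry TopologicalSpace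

noncomputable section

namespace Groth.Agent.ZBCorrPt

/-- A finite closed subset of a Jacobson space consists of closed points. -/
theorem isClosed_singleton_of_finite {T : Type u} [TopologicalSpace T] [JacobsonSpace T] {s : Set T}
    (hs : IsClosed s) (hfin : s.Finite) {z : T} (hz : z ∈ s) : IsClosed ({z} : Set T) := by
  have hsub : closure {z} ⊆ s := closure_minimal (Set.singleton_subset_iff.2 hz) hs
  have hfin' : (closure {z} ∩ closedPoints T).Finite := hfin.subset (Set.inter_subset_left.trans hsub)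
  have hcl : IsClosed (closure {z} ∩ closedPoints T) := by
    rw [← (closure {z} ∩ closedPoints T).biUnion_of_singleton]
    exact hfin'.isClosed_biUnion fun x hx => hx.2
  have h := closure_inter_closedPoints (X := T) (isClosed_closure (s := {z}))
  rw [hcl.closure_eq] at h
  exact (h.ge (subset_closure rfl)).2

/-- The local ring of a finite fibre has positive finite length. -/
theorem length_fibre_ne_zero {Z W : Scheme.{u}} (f : Z ⟶ W) [IsLocallyNoetherian Z] [JacobsonSpace Z]
    (z : Z) (hc : IsClosed ({f z} : Set W)) (hfin : (f ⁻¹' {f z}).Finite) :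
    (Module.length (Z.presheaf.stalk z) (Z.presheaf.stalk z ⧸
      (IsLocalRing.maximalIdeal (W.presheaf.stalk (f z))).map (f.stalkMap z).hom)).toNat ≠ 0 := by
  let S := Z.presheaf.stalk z
  let J := (IsLocalRing.maximalIdeal (W.presheaf.stalk (f z))).map (f.stalkMap z).hom
  have hJ : J ≤ IsLocalRing.maximalIdeal S :=
    Ideal.map_le_iff_le_comap.2 fun x hx => (map_mem_nonunits_iff (f.stalkMap z).hom x).2 hx
  have hprime : ∀ P : Ideal S, P.IsPrime → J ≤ P → P = IsLocalRing.maximalIdeal S := by
    intro P hP hle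
    let x : Spec S := ⟨P, hP⟩
    have h1 : Spec.map (f.stalkMap z) x = IsLocalRing.closedPoint (W.presheaf.stalk (f z)) := by
      refine PrimeSpectrum.ext ((IsLocalRing.maximalIdeal.isMaximal _).eq_of_le ?_ ?_).symm
      · exact (hP.comap (f.stalkMap z).hom).ne_top
      · exact Ideal.map_le_iff_le_comap.1 hle
    let z' := Z.fromSpecStalk z x
    have h2 : f z' = f z := by
      show f (Z.fromSpecStalk z x) = f z
      rw [← Scheme.Hom.comp_apply, ← Scheme.SpecMap_stalkMap_fromSpecStalk, Scheme.Hom.comp_apply, h1,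
        Scheme.fromSpecStalk_closedPoint]
    have h3 : z' ⤳ z := Scheme.range_fromSpecStalk.le ⟨x, rfl⟩
    have h4 : IsClosed ({z'} : Set Z) :=
      isClosed_singleton_of_finite (hc.preimage f.continuous) hfin h2
    have h5 : z' = z := ((Set.mem_singleton_iff.1 (h3.mem_closed h4 rfl))).symm
    have h6 : x = IsLocalRing.closedPoint S :=
      (Z.fromSpecStalk z).isEmbedding.injective (h5.trans Scheme.fromSpecStalk_closedPoint.symm)
    exact congrArg PrimeSpectrum.asIdeal h6
  haveI : Nontrivial (S ⧸ J) := Ideal.Quotient.nontrivial_iff.2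
    fun h => (IsLocalRing.maximalIdeal.isMaximal S).ne_top (top_le_iff.1 (h ▸ hJ))
  haveI : Ring.KrullDimLE 0 (S ⧸ J) := Ring.KrullDimLE.mk₀ fun I hI => by
    have hI' : (I.comap (Ideal.Quotient.mk J)).IsPrime := hI.comap _
    have h := hprime _ hI' (by
      conv_lhs => rw [← Ideal.mk_ker (I := J)]
      exact Ideal.comap_mono bot_le)
    haveI : (I.comap (Ideal.Quotient.mk J)).IsMaximal := h ▸ IsLocalRing.maximalIdeal.isMaximal S
    exact Ideal.map_comap_of_surjective _ Ideal.Quotient.mk_surjective I ▸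
      Ideal.IsMaximal.map_of_surjective_of_ker_le Ideal.Quotient.mk_surjective
        (Ideal.comap_mono bot_le)
  haveI : IsArtinianRing (S ⧸ J) := isArtinianRing_iff_krullDimLE_zero.2 inferInstance
  have hfl : IsFiniteLength (S ⧸ J) (S ⧸ J) := (isArtinianRing_iff_isFiniteLength _).1 inferInstance
  have heq := Module.length_eq_of_surjective (S := S) (R := S ⧸ J) (M := S ⧸ J) Ideal.Quotient.mk_surjective
  rw [ne_eq, ENat.toNat_eq_zero, not_or]
  refine ⟨Module.length_pos.ne', ?_⟩
  rw [heq]
  exact Module.length_ne_top_iff.2 hfl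

variable {k : Type u} [Field k] [IsAlgClosed k] {X W : Scheme.{u}}
  {p : X ⟶ Spec (CommRingCat.of k)} {q : W ⟶ Spec (CommRingCat.of k)}

/-- A family whose members over an open set vanish and whose components dominate the base is zero. -/
theorem eq_zero_of_fibreFun_eq_zero [IsIntegral W] [LocallyOfFiniteType q] [QuasiCompact q] [IsProper p]
    (Γc : AlgebraicCycle (pullback p q) ℤ)
    (hvert : ∀ ξ, Γc ξ ≠ 0 → pullback.snd p q ξ = genericPoint W)
    (U : W.Opens) (hU : (U : Set W).Nonempty)
    (hfin : ∀ ξ, Γc ξ ≠ 0 → ∀ w ∈ U, (closure {ξ} ∩ pullback.snd p q ⁻¹' {w}).Finite)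
    (hzero : ∀ (u : Spec (CommRingCat.of k) ⟶ W) (hu : u ≫ q = 𝟙 _),
      u (IsLocalRing.closedPoint k) ∈ U → ∀ x : X, AlgEqCyc.fibreFun p q Γc u hu x = 0) :
    Γc = 0 := by
  classical
  let π := pullback.snd p q
  haveI : LocallyOfFiniteType (π ≫ q) := inferInstance
  haveI : IsLocallyNoetherian (pullback p q) := LocallyOfFiniteType.isLocallyNoetherian (π ≫ q)
  haveI : JacobsonSpace ↥(pullback p q) := LocallyOfFiniteType.jacobsonSpace (π ≫ q)
  haveI : CompactSpace W := QuasiCompact.compactSpace_of_compactSpace q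
  haveI : CompactSpace ↥(pullback p q) := QuasiCompact.compactSpace_of_compactSpace π
  have hsupp : (Function.support Γc).Finite := by
    simpa using Γc.locallyFiniteSupport.finite_inter_support_of_isCompact (W := Set.univ) isCompact_univ
  ext ξ
  by_contra hξ
  change Γc ξ ≠ 0 at hξ
  have hgen : genericPoint W ∈ U := (genericPoint_specializes hU.choose).mem_open U.2 hU.choose_spec
  have hξU : ξ ∈ π ⁻¹ᵁ U := by
    show π ξ ∈ U
    rw [hvert ξ hξ]; exact hgen
  -- points of the support are not in each other's closures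
  have hsep : ∀ η, Γc η ≠ 0 → η ≠ ξ → ξ ∉ closure {η} := by
    intro η hη hne hmem
    have hf := hfin η hη (π ξ) hξU
    obtain ⟨z, hz⟩ : ξ ∈ Set.range (compι η) := by rw [range_compι]; exact hmem
    let f := compι η ≫ π
    have hres : ∀ c, ((f ∣_ U) c).1 = f c.1 := fun c => congrArg (fun φ => φ c) (morphismRestrict_ι f U)
    haveI : LocallyQuasiFinite (f ∣_ U) := by
      refine LocallyQuasiFinite.of_finite_preimage_singleton _ fun w => ?_
      refine ((hfin η hη w.1 w.2).preimage
        (((f ⁻¹ᵁ U).ι ≫ compι η).isEmbedding.injective.injOn)).subset fun a ha => ?_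
      refine ⟨(range_compι η).le ⟨_, rfl⟩, ?_⟩
      show π (compι η a.1) = w.1
      exact (hres a).symm.trans (congrArg Subtype.val (show (f ∣_ U) a = w from ha))
    haveI : IsFinite (f ∣_ U) := IsFinite.of_isProper_of_locallyQuasiFinite _
    have hzU : f z ∈ U := by show π (compι η z) ∈ U; rw [hz]; exact hξU
    have hgz : f (genericPoint (comp η)) = f z := by
      show π (compι η _) = π (compι η z)
      rw [compι_genericPoint, hz, hvert η hη, hvert ξ hξ]
    let a : (f ⁻¹ᵁ U).toScheme := ⟨genericPoint (comp η), by show f _ ∈ U; rw [hgz]; exact hzU⟩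
    let b : (f ⁻¹ᵁ U).toScheme := ⟨z, hzU⟩
    have hab : (f ∣_ U) a = (f ∣_ U) b := Subtype.ext ((hres a).trans (hgz.trans (hres b).symm))
    haveI := ((f ∣_ U).isDiscrete_preimage_singleton ((f ∣_ U) b)).1
    have hs : a ⤳ b := (subtype_specializes_iff a b).2 (genericPoint_specializes z)
    have h' : (⟨a, hab⟩ : (f ∣_ U) ⁻¹' {(f ∣_ U) b}) ⤳ ⟨b, rfl⟩ := (subtype_specializes_iff _ _).2 hs
    have he : genericPoint (comp η) = z := congrArg (fun t => t.1.1) h'.eq
    exact hne ((compι_genericPoint η).symm.trans ((congrArg (compι η) he).trans hz))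
  -- a closed point only on `ξ`
  let others : Set ↥(pullback p q) := ⋃ η ∈ Function.support Γc \ {ξ}, closure {η}
  have hclo : IsClosed others := (hsupp.subset Set.diff_subset).isClosed_biUnion fun η _ => isClosed_closure
  have hne : (closure {ξ} ∩ ((π ⁻¹ᵁ U : (pullback p q).Opens) ∩ othersᶜ)).Nonempty := by
    refine ⟨ξ, subset_closure rfl, hξU, fun h => ?_⟩
    obtain ⟨η, hη, hmem⟩ := Set.mem_iUnion₂.1 h
    exact hsep η hη.1 hη.2 hmem
  obtain ⟨z, ⟨hzξ, hzU, hzo⟩, hzc⟩ := nonempty_inter_closedPoints hne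
    (isClosed_closure.isLocallyClosed.inter ((π ⁻¹ᵁ U).2.inter hclo.isOpen_compl).isLocallyClosed)
  rw [mem_closedPoints_iff] at hzc
  have hπz : IsClosed ({π z} : Set W) := by
    have := π.isClosedMap _ hzc
    rwa [Set.image_singleton] at this
  let u := pointOfClosedPoint q (π z) hπz
  have hu : u ≫ q = 𝟙 _ := pointOfClosedPoint_comp q _ _
  let zp := pointOfClosedPoint (π ≫ q) z hzc
  have hzp : zp ≫ π ≫ q = 𝟙 _ := pointOfClosedPoint_comp (π ≫ q) _ _
  have hslice : AlgEqCyc.slice p q u hu (pullback.fst p q z) = z := by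
    have hu' : zp ≫ π = u := by
      refine ext_of_apply_closedPoint_eq q (by rw [Category.assoc]; exact hzp) hu ?_
      rw [Scheme.Hom.comp_apply, pointOfClosedPoint_apply, pointOfClosedPoint_apply]
    have e : (zp ≫ pullback.fst p q) ≫ AlgEqCyc.slice p q u hu = zp := by
      apply pullback.hom_ext
      · rw [Category.assoc, AlgEqCyc.slice, pullback.lift_fst, Category.comp_id]
      · rw [Category.assoc, AlgEqCyc.slice, pullback.lift_snd, ← Category.assoc _ p, Category.assoc zp,
          pullback.condition, ← hu', hzp, Category.id_comp]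
    have h := congrArg (fun φ => φ (IsLocalRing.closedPoint k)) e
    have hpz : zp (IsLocalRing.closedPoint k) = z := pointOfClosedPoint_apply _ _ _ _
    rw [Scheme.Hom.comp_apply, Scheme.Hom.comp_apply, hpz] at h
    exact h
  have hx := hzero u hu (by rw [pointOfClosedPoint_apply]; exact hzU) (pullback.fst p q z)
  have hspec : ξ ⤳ z := specializes_iff_mem_closure.2 hzξ
  have aux : ∀ v (hv : ξ ⤳ v), v = z → AlgEqCyc.fibreMult π v ξ hv = AlgEqCyc.fibreMult π z ξ hspec := by
    rintro v hv rfl; rfl
  unfold AlgEqCyc.fibreFun at hx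
  rw [finsum_eq_single _ (⟨ξ, hξ, hslice.symm ▸ hspec⟩ :
    {w // Γc w ≠ 0 ∧ w ⤳ AlgEqCyc.slice p q u hu (pullback.fst p q z)}) fun w hw => ?_] at hx
  · rw [aux _ _ hslice] at hx
    refine mul_ne_zero hξ (Nat.cast_ne_zero.2 ?_) hx
    obtain ⟨a, ha⟩ : z ∈ Set.range (compι ξ) := by rw [range_compι]; exact hzξ
    subst ha
    have hgsp : compι ξ (genericPoint (comp ξ)) ⤳ compι ξ a :=
      (genericPoint_specializes a).map (compι ξ).continuous
    have aux' : ∀ η (h : η ⤳ compι ξ a), η = compι ξ (genericPoint (comp ξ)) →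
        AlgEqCyc.fibreMult π (compι ξ a) η h = AlgEqCyc.fibreMult π (compι ξ a) _ hgsp := by
      rintro η h rfl; rfl
    rw [aux' _ _ (compι_genericPoint ξ).symm, fibreMult_eq_length]
    haveI : LocallyOfFiniteType (compι ξ ≫ π ≫ q) := inferInstance
    haveI : IsLocallyNoetherian (comp ξ) := LocallyOfFiniteType.isLocallyNoetherian (compι ξ ≫ π ≫ q)
    haveI : JacobsonSpace (comp ξ) := LocallyOfFiniteType.jacobsonSpace (compι ξ ≫ π ≫ q)
    have h := length_fibre_ne_zero (compι ξ ≫ π) a hπz
      (((hfin ξ hξ _ hzU).preimage (compι ξ).isClosedEmbedding.injective.injOn).subset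
        fun b hb => ⟨(range_compι ξ).le ⟨b, rfl⟩, hb⟩)
    rwa [Scheme.Hom.stalkMap_comp, CommRingCat.hom_comp] at h
  · exfalso
    refine hzo (Set.mem_iUnion₂.2 ⟨w.1, ⟨w.2.1, fun he => hw (Subtype.ext he)⟩, ?_⟩)
    exact specializes_iff_mem_closure.1 (w.2.2.trans (specializes_of_eq hslice))

end Groth.Agent.ZBCorrPt
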