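import Groth.Agent.ZBCorrPt.Local
import Groth.Agent.ZBSym.FibPow
import Groth.Agent.SGA1Q.Properties
import Groth.Agent.CycCovGeo.Bridge
import Mathlib.AlgebraicGeometry.Morphisms.Proper

/-!
# Effective finite flat families of zero-cycles give morphisms to the symmetric product
-/

set_option autoImplicit false
set_option backward.isDefEq.respectTransparency false
set_option backward.isDefEq.respectTransparency.types false

universe u

open CategoryTheory CategoryTheory.Limits AlgebraicGeometry TopologicalSpace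

noncomputable section

namespace Groth.Agent.ZBCorrPt

/-- Fibre powers of proper schemes are proper. -/
theorem isProper_base {C S : Scheme.{u}} (f : C ⟶ S) [IsProper f] :
    ∀ r : ℕ, IsProper (WidePullback.base (fun (_ : Fin r) => f))
  | 0 => by haveI := ZBSym.isIso_base_zero f; infer_instance
  | n + 1 => by
    haveI := isProper_base f n
    haveI : IsIso (ZBSym.toSucc f n) := (inferInstance : IsIso (ZBSym.fibPowSucc f n).hom)
    have e : WidePullback.base (fun _ : Fin (n + 1) => f) = ZBSym.toSucc f n ≫ pullback.fst f _ ≫ f := by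
      rw [← ZBSym.ofSucc_base, ← Category.assoc, ZBSym.toSucc_ofSucc, Category.id_comp]
    rw [e]
    infer_instance

variable {k : Type u} [Field k] [IsAlgClosed k]
variable {X W Sy : Scheme.{u}} {p : X ⟶ Spec (CommRingCat.of k)} {d : ℕ}
  {qS : SymProd.fibPow p d ⟶ Sy} {g : Sy ⟶ Spec (CommRingCat.of k)}

/-- A rational point of the symmetric product is determined by its zero-cycle. -/
theorem eq_of_isCycleOfSymPt [LocallyOfFiniteType p] (hS : SymProd.IsSymProd p d qS g)
    {y y' : Spec (CommRingCat.of k) ⟶ Sy} (hy : y ≫ g = 𝟙 _) (hy' : y' ≫ g = 𝟙 _) {α : X → ℤ}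
    (h : ZCorr.IsCycleOfSymPt p d qS y α) (h' : ZCorr.IsCycleOfSymPt p d qS y' α) : y = y' := by
  classical
  obtain ⟨t, rfl, ht⟩ := h
  obtain ⟨t', rfl, ht'⟩ := h'
  let pt : ↥(Spec (CommRingCat.of k)) := IsLocalRing.closedPoint k
  let a : Fin d → X := fun i => (t ≫ WidePullback.π (fun _ => p) i) pt
  let a' : Fin d → X := fun i => (t' ≫ WidePullback.π (fun _ => p) i) pt
  have hc : ∀ x, Nat.card {i // a' i = x} = Nat.card {i // a i = x} := fun x => by
    exact_mod_cast (ht' x).symm.trans (ht x)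
  let σ : Fin d ≃ Fin d := Equiv.ofFiberEquiv (f := a') (g := a) fun x =>
    Classical.choice (Finite.card_eq.1 (hc x))
  have hσ : ∀ i, a (σ i) = a' i := Equiv.ofFiberEquiv_map _
  have hb : t ≫ WidePullback.base (fun _ : Fin d => p) = 𝟙 _ := by
    rw [← hS.over, ← Category.assoc]; exact hy
  have hb' : t' ≫ WidePullback.base (fun _ : Fin d => p) = 𝟙 _ := by
    rw [← hS.over, ← Category.assoc]; exact hy'
  have ht2 : t' = t ≫ SymProd.permHom p d σ.symm := by
    apply WidePullback.hom_ext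
    · intro i
      rw [Category.assoc, SymProd.permHom_π, Equiv.symm_symm]
      refine ext_of_apply_closedPoint_eq p ?_ ?_ (hσ i).symm
      · rw [Category.assoc, WidePullback.π_arrow]; exact hb'
      · rw [Category.assoc, WidePullback.π_arrow]; exact hb
    · rw [Category.assoc, SymProd.permHom_base, hb, hb']
  rw [ht2, Category.assoc]
  exact (congrArg (t ≫ ·) (hS.isQuot.inv ⟨σ.symm⟩)).symm

variable [CharZero k] {q : W ⟶ Spec (CommRingCat.of k)}

/-- An effective family of zero-cycles, finite and flat over a smooth variety, gives a morphism to the symmetric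
product. -/
theorem exists_morphism [IsIntegral W] [Smooth q] [QuasiCompact q] [IsProper p]
    (hS : SymProd.IsSymProd p d qS g) (Γc : AlgebraicCycle (pullback p q) ℤ) (hΓ0 : ∀ ξ, 0 ≤ Γc ξ)
    (hfin : ∀ ξ, Γc ξ ≠ 0 → ∀ w : W, (closure {ξ} ∩ pullback.snd p q ⁻¹' {w}).Finite)
    (hflat : ∀ ξ, Γc ξ ≠ 0 → ∀ (z : ↥(pullback p q)) (h : ξ ⤳ z),
      ((Ideal.Quotient.mk (RingHom.ker (Cyc.specMap z ξ h))).comp
        ((pullback.snd p q).stalkMap z).hom).Flat)
    (hdeg : ∀ (u : Spec (CommRingCat.of k) ⟶ W) (hu : u ≫ q = 𝟙 _),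
      ∑ᶠ x, AlgEqCyc.fibreFun p q Γc u hu x = (d : ℤ)) :
    ∃ F : W ⟶ Sy, F ≫ g = q ∧ ∀ (u : Spec (CommRingCat.of k) ⟶ W) (hu : u ≫ q = 𝟙 _),
      ZCorr.IsCycleOfSymPt p d qS (u ≫ F) (AlgEqCyc.fibreFun p q Γc u hu) := by
  classical
  haveI : IsLocallyNoetherian W := LocallyOfFiniteType.isLocallyNoetherian q
  haveI : CompactSpace W := QuasiCompact.compactSpace_of_compactSpace q
  haveI : CompactSpace ↥(pullback p q) := QuasiCompact.compactSpace_of_compactSpace (pullback.snd p q)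
  have hsupp : (Function.support Γc).Finite := by
    simpa using Γc.locallyFiniteSupport.finite_inter_support_of_isCompact (W := Set.univ) isCompact_univ
  have hfinite : ∀ ξ, Γc ξ ≠ 0 → IsFinite (compι ξ ≫ pullback.snd p q) := fun ξ hξ =>
    isFinite_comp ξ _ (hfin ξ hξ)
  have hflat' : ∀ ξ, Γc ξ ≠ 0 → Flat (compι ξ ≫ pullback.snd p q) := by
    intro ξ hξ
    refine (Flat.iff_flat_stalkMap _).2 fun z => flat_stalkMap_of_locQuot _ _ z
      ((genericPoint_specializes z).map (compι ξ).continuous) ?_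
    have aux : ∀ η (h : η ⤳ compι ξ z), η = ξ →
        ((Ideal.Quotient.mk (RingHom.ker (Cyc.specMap (compι ξ z) η h))).comp
          ((pullback.snd p q).stalkMap (compι ξ z)).hom).Flat := by
      rintro η h rfl; exact hflat _ hξ _ h
    exact aux _ _ (compι_genericPoint ξ)
  let ι := {ξ : ↥(pullback p q) // Γc ξ ≠ 0}
  haveI : Finite ι := hsupp.to_subtype
  -- an affine neighbourhood with free components
  have hnhd : ∀ w : W, ∃ W0 : W.Opens, w ∈ W0 ∧ IsAffineOpen W0 ∧ ∀ ξ, Γc ξ ≠ 0 →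
      letI := H23.CoverPush.alg (compι ξ ≫ pullback.snd p q) W0
      Module.Free Γ(W, W0) Γ(comp ξ, (compι ξ ≫ pullback.snd p q) ⁻¹ᵁ W0) ∧
        Module.Finite Γ(W, W0) Γ(comp ξ, (compι ξ ≫ pullback.snd p q) ⁻¹ᵁ W0) := by
    intro w
    have h1 : ∀ j : ι, ∃ U : W.Opens, w ∈ U ∧ ∀ V : W.Opens, IsAffineOpen V → V ≤ U →
        letI := H23.CoverPush.alg (compι j.1 ≫ pullback.snd p q) V
        Module.Free Γ(W, V) Γ(comp j.1, (compι j.1 ≫ pullback.snd p q) ⁻¹ᵁ V) ∧
          Module.Finite Γ(W, V) Γ(comp j.1, (compι j.1 ≫ pullback.snd p q) ⁻¹ᵁ V) := fun j => by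
      haveI := hfinite j.1 j.2
      haveI := hflat' j.1 j.2
      exact exists_free_nhd _ w
    choose U hwU hU using h1
    have hI : IsOpen (⋂ j, (U j : Set W)) := isOpen_iInter_of_finite fun j => (U j).2
    obtain ⟨_, ⟨W0, hW0, rfl⟩, hwW0, hle⟩ := W.isBasis_affineOpens.exists_subset_of_mem_open
      (Set.mem_iInter.2 hwU) hI
    exact ⟨W0, hwW0, hW0, fun ξ hξ => hU ⟨ξ, hξ⟩ W0 hW0 fun x hx => Set.mem_iInter.1 (hle hx) ⟨ξ, hξ⟩⟩
  choose W0 hw hW0 hfree using hnhd
  haveI : ∀ w, Nonempty (W0 w) := fun w => ⟨⟨w, hw w⟩⟩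
  choose F hFg hF using fun w => exists_local p q qS g hS (hW0 w)
    (CycCovGeo.isIntegrallyClosed_sections q (hW0 w)) Γc hsupp hΓ0 hfinite hflat' (hfree w) hdeg
  -- gluing
  haveI := isProper_base p d
  haveI : IsSeparated g := (SGA1Q.isSeparated_iff_of_isQuot hS.isQuot hS.over).1 inferInstance
  haveI : LocallyOfFiniteType g := SGA1Q.locallyOfFiniteType_of_isQuot hS.isQuot hS.over inferInstance
  have hcov : IsOpenCover W0 := IsOpenCover.mk (top_le_iff.mp fun w _ => Opens.mem_iSup.2 ⟨w, hw w⟩)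
  let 𝒰 := W.openCoverOfIsOpenCover _ hcov
  have hcompat : ∀ a b : W, pullback.fst (W0 a).ι (W0 b).ι ≫ F a = pullback.snd (W0 a).ι (W0 b).ι ≫ F b := by
    intro a b
    let i1 := pullback.fst (W0 a).ι (W0 b).ι
    let i2 := pullback.snd (W0 a).ι (W0 b).ι
    haveI : IsReduced (pullback (W0 a).ι (W0 b).ι) := isReduced_of_isOpenImmersion (i1 ≫ (W0 a).ι)
    have e : (i1 ≫ F a) ≫ g = (i1 ≫ (W0 a).ι) ≫ q := by rw [Category.assoc, hFg, Category.assoc]
    haveI : LocallyOfFiniteType ((i1 ≫ F a) ≫ g) := by rw [e]; infer_instance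
    refine ext_of_apply_eq g Set.univ isOpen_univ.isLocallyClosed dense_univ (fun z _ hz => ?_) ?_
    · let zp := pointOfClosedPoint ((i1 ≫ F a) ≫ g) z hz
      have hzp : zp ≫ (i1 ≫ F a) ≫ g = 𝟙 _ := pointOfClosedPoint_comp _ _ _
      have hua : ((zp ≫ i1) ≫ (W0 a).ι) ≫ q = 𝟙 _ := by
        rw [e] at hzp
        simpa only [Category.assoc] using hzp
      have heq : (zp ≫ i2) ≫ (W0 b).ι = (zp ≫ i1) ≫ (W0 a).ι := by
        simp only [Category.assoc, i1, i2, pullback.condition]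
      have hub : ((zp ≫ i2) ≫ (W0 b).ι) ≫ q = 𝟙 _ := by rw [heq]; exact hua
      have h1 := hF a (zp ≫ i1) hua
      have h2 := hF b (zp ≫ i2) hub
      have aux : ∀ u (hu : u ≫ q = 𝟙 _), u = (zp ≫ i1) ≫ (W0 a).ι →
          AlgEqCyc.fibreFun p q Γc u hu = AlgEqCyc.fibreFun p q Γc ((zp ≫ i1) ≫ (W0 a).ι) hua := by
        rintro u hu rfl; rfl
      rw [aux _ hub heq] at h2
      have h3 := eq_of_isCycleOfSymPt hS
        (by rw [Category.assoc, hFg, ← Category.assoc]; exact hua)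
        (by rw [Category.assoc, hFg, ← Category.assoc]; exact hub) h1 h2
      have h4 := congrArg (fun φ => φ (IsLocalRing.closedPoint k)) h3
      have hpz : zp (IsLocalRing.closedPoint k) = z := pointOfClosedPoint_apply _ _ _ _
      rw [← hpz]
      exact h4
    · rw [e, Category.assoc, Category.assoc, hFg]
      simp only [i1, ← Category.assoc, pullback.condition]
  let F0 : W ⟶ Sy := 𝒰.glueMorphisms F hcompat
  have hF0 : ∀ w, (W0 w).ι ≫ F0 = F w := fun w => 𝒰.ι_glueMorphisms _ hcompat w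
  refine ⟨F0, 𝒰.hom_ext _ _ fun w => ?_, fun u hu => ?_⟩
  · show (W0 w).ι ≫ F0 ≫ g = (W0 w).ι ≫ q
    rw [← Category.assoc, hF0, hFg]
  let w := u (IsLocalRing.closedPoint k)
  have hur : Set.range u ⊆ Set.range (W0 w).ι := by
    rintro _ ⟨a, rfl⟩
    rw [Scheme.Opens.range_ι]
    have : a = IsLocalRing.closedPoint k := Subsingleton.elim (α := PrimeSpectrum k) _ _
    rw [this]
    exact hw w
  obtain ⟨u0, hu0⟩ : ∃ u0, u0 ≫ (W0 w).ι = u :=
    ⟨IsOpenImmersion.lift (W0 w).ι u hur, IsOpenImmersion.lift_fac _ _ _⟩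
  have hu' : (u0 ≫ (W0 w).ι) ≫ q = 𝟙 _ := by rw [hu0]; exact hu
  have h1 := hF w u0 hu'
  rw [show u ≫ F0 = u0 ≫ F w by rw [← hu0, Category.assoc, hF0]]
  have aux : ∀ u' (hu' : u' ≫ q = 𝟙 _), u' = u →
      AlgEqCyc.fibreFun p q Γc u' hu' = AlgEqCyc.fibreFun p q Γc u hu := by
    rintro u' hu' rfl; rfl
  rw [aux _ hu' hu0] at h1
  exact h1

end Groth.Agent.ZBCorrPt
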