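import Groth.Agent.ZBCorrPt.GenPoints
import Groth.Agent.H23.CoverPush
import Mathlib.AlgebraicGeometry.Morphisms.Finite
import Mathlib.AlgebraicGeometry.Morphisms.Separated
import Mathlib.RingTheory.IntegralClosure.IsIntegralClosure.Basic
import Mathlib.FieldTheory.IsAlgClosed.Basic
import Mathlib.RingTheory.Ideal.GoingUp

/-!
# Spreading points over the geometric generic point to the integral closure
-/

set_option autoImplicit false
set_option backward.isDefEq.respectTransparency false
set_option backward.isDefEq.respectTransparency.types false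

universe u

open CategoryTheory CategoryTheory.Limits AlgebraicGeometry TopologicalSpace

noncomputable section

namespace Groth.Agent.ZBCorrPt

variable {W : Scheme.{u}} [IsIntegral W]

/-- The integral closure of the sections in the algebraic closure of the function field. -/
abbrev BigRing (W0 : W.Opens) [Nonempty W0] : Type u := ↥(integralClosure Γ(W, W0) (GenField W))

/-- Its geometric point. -/
def bigPt (W0 : W.Opens) [Nonempty W0] :
    Spec (CommRingCat.of (GenField W)) ⟶ Spec (CommRingCat.of (BigRing W0)) :=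
  Spec.map (CommRingCat.ofHom (integralClosure Γ(W, W0) (GenField W)).val.toRingHom)

instance isDominant_bigPt (W0 : W.Opens) [Nonempty W0] : IsDominant (bigPt W0) := by
  constructor
  refine (dense_iff_closure_eq.2 ?_)
  refine Set.eq_univ_of_univ_subset fun x _ => ?_
  have h : bigPt W0 (IsLocalRing.closedPoint (GenField W)) = (⟨⊥, Ideal.isPrime_bot⟩ : PrimeSpectrum (BigRing W0)) := by
    refine PrimeSpectrum.ext ?_
    show Ideal.comap _ (IsLocalRing.maximalIdeal (GenField W)) = ⊥
    rw [IsLocalRing.isField_iff_maximalIdeal_eq.1 (Field.toIsField _), ← RingHom.ker_eq_comap_bot]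
    exact (RingHom.injective_iff_ker_eq_bot _).1 Subtype.val_injective
  have hs : bigPt W0 (IsLocalRing.closedPoint (GenField W)) ⤳ x :=
    h ▸ ((PrimeSpectrum.le_iff_specializes (⟨⊥, Ideal.isPrime_bot⟩ : PrimeSpectrum (BigRing W0)) x).1 bot_le)
  exact closure_mono (Set.singleton_subset_iff.2 (Set.mem_range_self _)) (specializes_iff_mem_closure.1 hs)

/-- The structure morphism. -/
def bigMap {W0 : W.Opens} (hW0 : IsAffineOpen W0) [Nonempty W0] :
    Spec (CommRingCat.of (BigRing W0)) ⟶ W :=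
  Spec.map (CommRingCat.ofHom (algebraMap Γ(W, W0) (BigRing W0))) ≫ hW0.fromSpec

theorem bigPt_bigMap {W0 : W.Opens} (hW0 : IsAffineOpen W0) [Nonempty W0] :
    bigPt W0 ≫ bigMap hW0 = genGeom W := by
  rw [genGeom_eq hW0, bigPt, bigMap, ← Spec.map_comp_assoc]
  rfl

variable {Z : Scheme.{u}} (f : Z ⟶ W) [IsFinite f] {W0 : W.Opens} (hW0 : IsAffineOpen W0) [Nonempty W0]

/-- The point of a finite scheme given by a homomorphism to the integral closure. -/
def bigLift (σ : letI := H23.CoverPush.alg f W0; Γ(Z, f ⁻¹ᵁ W0) →ₐ[Γ(W, W0)] BigRing W0) :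
    Spec (CommRingCat.of (BigRing W0)) ⟶ Z :=
  letI := H23.CoverPush.alg f W0
  Spec.map (CommRingCat.ofHom (σ : Γ(Z, f ⁻¹ᵁ W0) →+* BigRing W0)) ≫ (hW0.preimage f).fromSpec

theorem bigLift_comp (σ : letI := H23.CoverPush.alg f W0; Γ(Z, f ⁻¹ᵁ W0) →ₐ[Γ(W, W0)] BigRing W0) :
    bigLift f hW0 σ ≫ f = bigMap hW0 := by
  letI := H23.CoverPush.alg f W0
  rw [bigLift, Category.assoc, ← IsAffineOpen.SpecMap_appLE_fromSpec f hW0 (hW0.preimage f) le_rfl,
    ← Spec.map_comp_assoc, ← Scheme.Hom.app_eq_appLE]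
  exact congrArg (fun φ => Spec.map φ ≫ hW0.fromSpec) (CommRingCat.hom_ext σ.comp_algebraMap)

theorem bigLift_injective : Function.Injective (fun σ => bigPt W0 ≫ bigLift f hW0 σ) := by
  letI := H23.CoverPush.alg f W0
  intro σ σ' h
  simp only [bigPt, bigLift, ← Category.assoc, cancel_mono, ← Spec.map_comp] at h
  have h1 := congrArg CommRingCat.Hom.hom (Spec.map_injective h)
  exact AlgHom.ext fun c => Subtype.ext (RingHom.congr_fun h1 c)

/-- Points over the geometric generic point of a finite scheme extend to the integral closure. -/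
theorem exists_bigLift (c : Spec (CommRingCat.of (GenField W)) ⟶ Z) (hc : c ≫ f = genGeom W) :
    ∃ σ, bigPt W0 ≫ bigLift f hW0 σ = c := by
  letI := H23.CoverPush.alg f W0
  have hrange : Set.range c ⊆ Set.range (hW0.preimage f).fromSpec := by
    rw [(hW0.preimage f).range_fromSpec]
    rintro _ ⟨y, rfl⟩
    show f (c y) ∈ W0
    rw [← Scheme.Hom.comp_apply, hc, genGeom_eq hW0]
    exact hW0.range_fromSpec.le ⟨_, rfl⟩
  obtain ⟨c', hc'⟩ : ∃ c', c' ≫ (hW0.preimage f).fromSpec = c :=
    ⟨IsOpenImmersion.lift _ c hrange, IsOpenImmersion.lift_fac _ _ _⟩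
  obtain ⟨s, rfl⟩ : ∃ s, Spec.map s = c' := ⟨_, Spec.map_preimage c'⟩
  have hs : s.hom.comp (algebraMap Γ(W, W0) Γ(Z, f ⁻¹ᵁ W0)) = genEval W0 := by
    rw [← hc', Category.assoc, ← IsAffineOpen.SpecMap_appLE_fromSpec f hW0 (hW0.preimage f) le_rfl,
      genGeom_eq hW0, ← Category.assoc, cancel_mono, ← Spec.map_comp, ← Scheme.Hom.app_eq_appLE] at hc
    exact congrArg CommRingCat.Hom.hom (Spec.map_injective hc)
  let sA : Γ(Z, f ⁻¹ᵁ W0) →ₐ[Γ(W, W0)] GenField W :=
    { s.hom with commutes' := fun r => RingHom.congr_fun hs r }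
  haveI : Module.Finite Γ(W, W0) Γ(Z, f ⁻¹ᵁ W0) := f.finite_app W0 hW0
  refine ⟨AlgHom.codRestrict sA (integralClosure Γ(W, W0) (GenField W))
    fun a => (Algebra.IsIntegral.isIntegral a).map sA, ?_⟩
  rw [← hc', bigPt, bigLift, ← Spec.map_comp_assoc]
  rfl

/-- Points over the geometric generic point of an integral scheme finite over the base, given by
homomorphisms, are generic. -/
theorem bigPt_bigLift_apply [IsIntegral Z] [Nonempty (f ⁻¹ᵁ W0 : Z.Opens)]
    (σ : letI := H23.CoverPush.alg f W0; Γ(Z, f ⁻¹ᵁ W0) →ₐ[Γ(W, W0)] BigRing W0) :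
    (bigPt W0 ≫ bigLift f hW0 σ) (IsLocalRing.closedPoint (GenField W)) = genericPoint Z := by
  letI := H23.CoverPush.alg f W0
  haveI : Module.Finite Γ(W, W0) Γ(Z, f ⁻¹ᵁ W0) := f.finite_app W0 hW0
  let τ := (integralClosure Γ(W, W0) (GenField W)).val.comp σ
  have hker : RingHom.ker τ = ⊥ := by
    haveI : (RingHom.ker τ).IsPrime := RingHom.ker_isPrime _
    refine Ideal.eq_bot_of_comap_eq_bot (R := Γ(W, W0)) ?_
    refine le_bot_iff.1 fun r hr => ?_
    rw [Ideal.mem_comap, RingHom.mem_ker, AlgHom.commutes] at hr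
    exact genEval_injective W0 (hr.trans (map_zero _).symm)
  rw [bigPt, bigLift, ← Spec.map_comp_assoc, Scheme.Hom.comp_apply]
  haveI : IrreducibleSpace (Spec Γ(Z, f ⁻¹ᵁ W0)) := PrimeSpectrum.irreducibleSpace
  refine Eq.trans (congrArg (hW0.preimage f).fromSpec ?_)
    (genericPoint_eq_of_isOpenImmersion (hW0.preimage f).fromSpec)
  rw [genericPoint_eq_bot_of_affine]
  refine PrimeSpectrum.ext ?_
  show Ideal.comap τ (IsLocalRing.maximalIdeal (GenField W)) = ⊥
  rw [IsLocalRing.isField_iff_maximalIdeal_eq.1 (Field.toIsField _), ← hker]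
  rfl

/-- Rational points of the base lift to the integral closure. -/
theorem exists_residue {k : Type u} [Field k] [IsAlgClosed k] (q : W ⟶ Spec (CommRingCat.of k))
    (u : Spec (CommRingCat.of k) ⟶ W) (hu : u ≫ q = 𝟙 _)
    (hmem : u (IsLocalRing.closedPoint k) ∈ W0) :
    ∃ χ : BigRing W0 →+* k, Spec.map (CommRingCat.ofHom χ) ≫ bigMap hW0 = u := by
  let R := Γ(W, W0)
  let R' := BigRing W0
  let αk : CommRingCat.of k ⟶ R := Spec.preimage (hW0.fromSpec ≫ q)
  have hrange : Set.range u ⊆ Set.range hW0.fromSpec := by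
    rw [hW0.range_fromSpec]
    rintro _ ⟨y, rfl⟩
    rw [Subsingleton.elim (α := PrimeSpectrum k) y (IsLocalRing.closedPoint k)]
    exact hmem
  obtain ⟨u', hu'⟩ : ∃ u', u' ≫ hW0.fromSpec = u :=
    ⟨IsOpenImmersion.lift _ u hrange, IsOpenImmersion.lift_fac _ _ _⟩
  let e' : R →+* k := (Spec.preimage u').hom
  have he : Spec.map (CommRingCat.ofHom e') = u' := Spec.map_preimage _
  have hek : ∀ c, e' (αk.hom c) = c := fun c => by
    have : Spec.map (αk ≫ CommRingCat.ofHom e') = 𝟙 _ := by
      rw [Spec.map_comp, Spec.map_preimage, he, ← Category.assoc, hu', hu]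
    exact RingHom.congr_fun (congrArg CommRingCat.Hom.hom
      (Spec.map_injective (this.trans (Spec.map_id _).symm))) c
  haveI : (RingHom.ker e').IsPrime := RingHom.ker_isPrime _
  have hinj : Function.Injective (algebraMap R R') := fun a b h =>
    genEval_injective W0 (congrArg Subtype.val h)
  haveI : IsDomain R' := inferInstance
  haveI : Algebra.IsIntegral R R' := inferInstance
  obtain ⟨M, hM, hMc⟩ := Ideal.exists_ideal_over_prime_of_isIntegral_of_isDomain (S := R') (RingHom.ker e')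
    (by rw [(RingHom.injective_iff_ker_eq_bot _).1 hinj]; exact bot_le)
  haveI := hM
  let φ : k →+* R' ⧸ M := (Ideal.Quotient.mk M).comp ((algebraMap R R').comp αk.hom)
  have hφe : φ.comp e' = (Ideal.Quotient.mk M).comp (algebraMap R R') := by
    refine RingHom.ext fun r => (Ideal.Quotient.eq.2 ?_)
    show algebraMap R R' (αk.hom (e' r)) - algebraMap R R' r ∈ M
    rw [← map_sub]
    refine (Ideal.mem_comap.1 (hMc.ge ?_))
    rw [RingHom.mem_ker, map_sub, hek, sub_self]
  have hφ : φ.IsIntegral := by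
    intro a
    obtain ⟨a, rfl⟩ := Ideal.Quotient.mk_surjective a
    obtain ⟨Q, hQ1, hQ2⟩ := Algebra.IsIntegral.isIntegral (R := R) a
    refine ⟨Q.map e', hQ1.map _, ?_⟩
    rw [Polynomial.eval₂_map, hφe, ← Polynomial.hom_eval₂, hQ2, map_zero]
  have hb := IsAlgClosed.ringHom_bijective_of_isIntegral φ hφ
  let E := RingEquiv.ofBijective φ hb
  refine ⟨E.symm.toRingHom.comp (Ideal.Quotient.mk M), ?_⟩
  rw [← hu', bigMap, ← Spec.map_comp_assoc, ← he]
  congr 2
  refine CommRingCat.hom_ext (RingHom.ext fun r => E.injective ?_)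
  show E (E.symm (Ideal.Quotient.mk M (algebraMap R R' r))) = φ (e' r)
  rw [E.apply_symm_apply]
  exact (RingHom.congr_fun hφe r).symm

end Groth.Agent.ZBCorrPt
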