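import Groth.Agent.H23.CoverPush
import Mathlib.RingTheory.Flat.Localization
import Mathlib.RingTheory.Localization.LocalizationLocalization
import Mathlib.RingTheory.Localization.Free
import Mathlib.RingTheory.LocalRing.Module
import Mathlib.AlgebraicGeometry.Noetherian
import Mathlib.AlgebraicGeometry.Morphisms.Finite

/-!
# A finite morphism is free near a point over which it is flat
-/

set_option autoImplicit false
set_option backward.isDefEq.respectTransparency false
set_option backward.isDefEq.respectTransparency.types false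
set_option maxHeartbeats 800000

universe u

open CategoryTheory CategoryTheory.Limits AlgebraicGeometry TopologicalSpace

noncomputable section

namespace Groth.Agent.ZBCorrPt

theorem exists_free_nhd_of_flat_fibre {Z W : Scheme.{u}} (f : Z ⟶ W) [IsFinite f] [IsLocallyNoetherian W]
    (w : W) (hflat : ∀ z, f z = w → (f.stalkMap z).hom.Flat) :
    ∃ U : W.Opens, w ∈ U ∧ ∀ V : W.Opens, IsAffineOpen V → V ≤ U →
      letI := H23.CoverPush.alg f V
      Module.Free Γ(W, V) Γ(Z, f ⁻¹ᵁ V) ∧ Module.Finite Γ(W, V) Γ(Z, f ⁻¹ᵁ V) := by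
  obtain ⟨_, ⟨U, hU, rfl⟩, hw, -⟩ :=
    W.isBasis_affineOpens.exists_subset_of_mem_open (Set.mem_univ w) isOpen_univ
  have hU' : IsAffineOpen U := hU
  have hV : IsAffineOpen (f ⁻¹ᵁ U) := hU'.preimage f
  letI := H23.CoverPush.alg f U
  let R := Γ(W, U)
  let B := Γ(Z, f ⁻¹ᵁ U)
  haveI : IsNoetherianRing R := IsLocallyNoetherian.component_noetherian ⟨U, hU'⟩
  haveI : Module.Finite R B := f.finite_app U hU'
  haveI : Module.FinitePresentation R B := Module.finitePresentation_of_finite R B
  let m := (hU'.primeIdealOf ⟨w, hw⟩).asIdeal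
  let Rm := Localization.AtPrime m
  let Bm := Localization (Algebra.algebraMapSubmonoid B m.primeCompl)
  letI : Algebra Rm Bm := localizationAlgebra m.primeCompl B
  haveI : IsScalarTower R Rm Bm := IsScalarTower.of_algebraMap_eq' (by
    refine RingHom.ext fun r => ?_
    rw [RingHom.comp_apply, RingHom.algebraMap_toAlgebra, IsLocalization.map_eq]
    exact IsScalarTower.algebraMap_apply R B Bm r)
  let φ : B →ₗ[R] Bm := (IsScalarTower.toAlgHom R B Bm).toLinearMap
  haveI : IsLocalizedModule m.primeCompl φ := isLocalizedModule_iff_isLocalization.2 inferInstance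
  haveI : Module.Finite Rm Bm := Module.Finite.of_isLocalizedModule m.primeCompl (Rₚ := Rm) φ
  haveI hflatR : Module.Flat R Bm := by
    refine Module.flat_of_isLocalized_maximal (S := Bm) Bm (fun P _ => Localization.AtPrime P)
      (fun P _ => Algebra.linearMap Bm (Localization.AtPrime P)) fun P hP => ?_
    let q := P.comap (algebraMap B Bm)
    haveI : q.IsPrime := hP.isPrime.comap _
    haveI : IsLocalization.AtPrime (Localization.AtPrime P) q :=
      IsLocalization.isLocalization_isLocalization_atPrime_isLocalization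
        (Algebra.algebraMapSubmonoid B m.primeCompl) (Localization.AtPrime P) P
    have hqm : q.comap (algebraMap R B) = m := by
      haveI : Algebra.IsIntegral Rm Bm := Algebra.IsIntegral.of_finite Rm Bm
      have h1 : P.comap (algebraMap Rm Bm) = IsLocalRing.maximalIdeal Rm :=
        IsLocalRing.eq_maximalIdeal (Ideal.isMaximal_comap_of_isIntegral_of_isMaximal P)
      rw [Ideal.comap_comap, ← IsScalarTower.algebraMap_eq, IsScalarTower.algebraMap_eq R Rm Bm,
        ← Ideal.comap_comap, h1]
      exact IsLocalization.AtPrime.comap_maximalIdeal Rm m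
    let z := hV.fromSpec (⟨q, inferInstance⟩ : PrimeSpectrum B)
    have hzV : z ∈ f ⁻¹ᵁ U := hV.range_fromSpec.le ⟨_, rfl⟩
    have hz : f z = w := by
      have h1 := congrArg (fun φ => φ (⟨q, inferInstance⟩ : PrimeSpectrum B))
        (IsAffineOpen.SpecMap_appLE_fromSpec f hU' hV le_rfl)
      refine h1.symm.trans ?_
      rw [← Scheme.Hom.app_eq_appLE, Scheme.Hom.comp_apply]
      refine Eq.trans (congrArg hU'.fromSpec ?_) (hU'.fromSpec_primeIdealOf ⟨w, hw⟩)
      exact PrimeSpectrum.ext hqm
    let S := Z.presheaf.stalk z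
    letI : Algebra B S := TopCat.Presheaf.algebra_section_stalk Z.presheaf ⟨z, hzV⟩
    haveI : IsLocalization.AtPrime S q := hV.isLocalization_stalk' ⟨q, inferInstance⟩ hzV
    letI : Algebra R S := ((algebraMap B S).comp (algebraMap R B)).toAlgebra
    haveI : IsScalarTower R B S := IsScalarTower.of_algebraMap_eq' rfl
    haveI : Module.Flat R S := by
      have hzU : f z ∈ U := hzV
      letI : Algebra R (W.presheaf.stalk (f z)) :=
        TopCat.Presheaf.algebra_section_stalk W.presheaf ⟨f z, hzU⟩
      haveI : IsLocalization.AtPrime (W.presheaf.stalk (f z)) (hU'.primeIdealOf ⟨f z, hzU⟩).asIdeal :=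
        hU'.isLocalization_stalk ⟨f z, hzU⟩
      have h1 : (algebraMap R (W.presheaf.stalk (f z))).Flat :=
        RingHom.flat_algebraMap_iff.2 (IsLocalization.flat _ (hU'.primeIdealOf ⟨f z, hzU⟩).asIdeal.primeCompl)
      have h2 : (W.presheaf.germ U (f z) hzU ≫ f.stalkMap z).hom.Flat := h1.comp (hflat z hz)
      rw [Scheme.Hom.germ_stalkMap] at h2
      exact RingHom.flat_algebraMap_iff.1 h2
    haveI : IsScalarTower R B (Localization.AtPrime P) :=
      IsScalarTower.of_algebraMap_eq fun r => by
        rw [IsScalarTower.algebraMap_apply R Bm (Localization.AtPrime P),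
          IsScalarTower.algebraMap_apply R B Bm,
          ← IsScalarTower.algebraMap_apply B Bm (Localization.AtPrime P)]
    exact Module.Flat.of_linearEquiv
      ((IsLocalization.algEquiv q.primeCompl (Localization.AtPrime P) S).restrictScalars R).toLinearEquiv
  haveI : Module.Flat Rm Bm := (Module.flat_iff_of_isLocalization Rm m.primeCompl Bm).2 hflatR
  haveI : Module.Free Rm Bm := Module.free_of_flat_of_isLocalRing
  obtain ⟨r, hr, hfree, -⟩ :=
    Module.FinitePresentation.exists_free_localizedModule_powers m.primeCompl φ Rm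
  let M := (Scheme.Modules.pushforward f).obj (Coh.structureModule Z)
  have hq : Coh.IsQCoh M := QCoh.isQCoh_pushforward f QCoh.isQCoh_structureModule
  have e0 : Γ(M, U) ≃ₗ[R] B :=
    { toFun := fun x => x, invFun := fun x => x, left_inv := fun _ => rfl, right_inv := fun _ => rfl,
      map_add' := fun _ _ => rfl, map_smul' := fun _ _ => rfl }
  haveI : Module.Finite R Γ(M, U) := Module.Finite.equiv e0.symm
  haveI := hfree
  haveI : Module.Free (Localization.Away r) (LocalizedModule.Away r Γ(M, U)) :=
    Module.Free.of_equiv (IsLocalizedModule.mapEquiv (Submonoid.powers r)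
      (LocalizedModule.mkLinearMap (Submonoid.powers r) B)
      (LocalizedModule.mkLinearMap (Submonoid.powers r) Γ(M, U)) (Localization.Away r) e0.symm)
  obtain ⟨n, ⟨e⟩⟩ := QCoh.exists_free_nhd hq hU' r inferInstance
  refine ⟨W.basicOpen r, (QCoh.mem_basicOpen_iff_notMem hU' hw r).2 hr, fun V hVa hVle => ?_⟩
  obtain ⟨l⟩ := QCoh.free_sections hVa hVle e
  letI := H23.CoverPush.alg f V
  let l' : Γ(Z, f ⁻¹ᵁ V) ≃ₗ[Γ(W, V)] (ULift.{u} (Fin n) →₀ Γ(W, V)) :=
    { l with map_smul' := fun r x => l.map_smul r x }
  exact ⟨Module.Free.of_equiv l'.symm, Module.Finite.equiv l'.symm⟩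

end Groth.Agent.ZBCorrPt
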