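import Groth.Agent.ZBCorrPt.Points
import Groth.Agent.ZBCorrPt.NearFree
import Groth.Agent.ZBCorrPt.GraphBase
import Groth.Agent.ZBCorrPt.Main
import Groth.Agent.FibDim.AffineSpaceFibre
import Groth.Agent.VarDim.Top
import Groth.Prelude.Def_Cyc

/-!
# The correspondence of a morphism to a symmetric product
-/

set_option autoImplicit false
set_option backward.isDefEq.respectTransparency false
set_option backward.isDefEq.respectTransparency.types false
set_option maxHeartbeats 1600000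

universe u

open CategoryTheory CategoryTheory.Limits AlgebraicGeometry TopologicalSpace

noncomputable section

namespace Groth.Agent.ZBCorrPt

variable {k : Type u} [Field k]

omit [Field k] in
theorem rdeg_eq_zero_of_finite {Z W P : Scheme.{u}} (e : Z ⟶ P) (π : P ⟶ W) [IsFinite (e ≫ π)] (z : Z) :
    VarDim.rdeg π (e z) = 0 := by
  have h1 : VarDim.rdeg (e ≫ π) z = 0 := by
    rw [← FibDim.rd_eq_rdeg, FibDim.rd_eq_zero_of_quasiFinite, Nat.cast_zero]
  rw [VarDim.rdeg_comp, add_eq_zero] at h1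
  exact h1.1

variable {X W : Scheme.{u}} {p : X ⟶ Spec (CommRingCat.of k)} {q : W ⟶ Spec (CommRingCat.of k)}

theorem apply_eq_slice_iff (u : Spec (CommRingCat.of k) ⟶ W) (hu : u ≫ q = 𝟙 _)
    (y : Spec (CommRingCat.of k) ⟶ pullback p q) (hy : y ≫ pullback.snd p q = u) (x : X) :
    y (IsLocalRing.closedPoint k) = AlgEqCyc.slice p q u hu x ↔
      (y ≫ pullback.fst p q) (IsLocalRing.closedPoint k) = x := by
  have e : (y ≫ pullback.fst p q) ≫ AlgEqCyc.slice p q u hu = y := by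
    apply pullback.hom_ext
    · rw [Category.assoc _ (AlgEqCyc.slice p q u hu), AlgEqCyc.slice, pullback.lift_fst, Category.comp_id]
    · rw [Category.assoc _ (AlgEqCyc.slice p q u hu), AlgEqCyc.slice, pullback.lift_snd, ← Category.assoc _ p,
        Category.assoc y, pullback.condition, ← Category.assoc y, hy, hu, Category.id_comp]
  constructor
  · intro h
    rw [Scheme.Hom.comp_apply, h, ← Scheme.Hom.comp_apply, AlgEqCyc.slice, pullback.lift_fst]
    rfl
  · intro h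
    conv_lhs => rw [← e, Scheme.Hom.comp_apply, h]

variable [IsAlgClosed k] [CharZero k]

/-- An effective correspondence with finite fibres inducing a given morphism to a symmetric product. -/
theorem exists_effective_correspondence [IsIntegral W] [LocallyOfFiniteType q] [IsSeparated q] [IsProper p]
    {d : ℕ} {Sy : Scheme.{u}} {qS : SymProd.fibPow p d ⟶ Sy} {g : Sy ⟶ Spec (CommRingCat.of k)}
    (hS : SymProd.IsSymProd p d qS g)
    (δ : ↥(pullback p q) → ℤ) (hδ : Cyc.DeltaCompat (pullback.fst p q ≫ p) δ (fun _ => 0))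
    (F : W ⟶ Sy) (hF : F ≫ g = q) :
    ∃ Γc : AlgebraicCycle (pullback p q) ℤ,
      Γc ∈ Cyc.Zk (pullback p q) δ (VarDim.deg q (genericPoint W)) ∧ (∀ ξ, 0 ≤ Γc ξ) ∧
      (∀ ξ, Γc ξ ≠ 0 → ∀ w : W, (closure {ξ} ∩ pullback.snd p q ⁻¹' {w}).Finite) ∧
      ∀ (u : Spec (CommRingCat.of k) ⟶ W) (hu : u ≫ q = 𝟙 _),
        (∀ ξ, Γc ξ ≠ 0 → ∀ (z : ↥(pullback p q)) (h : ξ ⤳ z),
          pullback.snd p q z = u (IsLocalRing.closedPoint k) →
            ((Ideal.Quotient.mk (RingHom.ker (Cyc.specMap z ξ h))).comp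
              ((pullback.snd p q).stalkMap z).hom).Flat) →
        ZCorr.IsCycleOfSymPt p d qS (u ≫ F) (AlgEqCyc.fibreFun p q Γc u hu) := by
  classical
  haveI : IsLocallyNoetherian W := LocallyOfFiniteType.isLocallyNoetherian q
  haveI := isProper_base p d
  haveI : IsFinite qS := SGA1Q.isFinite_of_isQuot hS.isQuot hS.over inferInstance
  let T := pullback F qS
  let π := pullback.snd p q
  let pt : ↥(Spec (CommRingCat.of (GenField W))) := IsLocalRing.closedPoint _
  let pk : ↥(Spec (CommRingCat.of k)) := IsLocalRing.closedPoint k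
  let ω := genGeom W
  obtain ⟨τ, hτ⟩ := ZH85.Quot.exists_lift hS.isQuot (ω ≫ F)
  have hτb : τ ≫ WidePullback.base (fun _ : Fin d => p) = ω ≫ q := by
    rw [← hS.over, ← Category.assoc, hτ, Category.assoc, hF]
  let a : Fin d → (Spec (CommRingCat.of (GenField W)) ⟶ pullback p q) := fun i =>
    pullback.lift (τ ≫ WidePullback.π (fun _ => p) i) ω (by rw [Category.assoc, WidePullback.π_arrow, hτb])
  let ξ : Fin d → ↥(pullback p q) := fun i => a i pt
  have haω : ∀ i, a i ≫ π = ω := fun i => pullback.lift_snd _ _ _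
  obtain ⟨_, ⟨W1, hW1, rfl⟩, hη1, -⟩ :=
    W.isBasis_affineOpens.exists_subset_of_mem_open (Set.mem_univ (genericPoint W)) isOpen_univ
  haveI : Nonempty W1 := ⟨⟨_, hη1⟩⟩
  have hωpt : ω pt = genericPoint W := by
    show (Spec.map _ ≫ W.fromSpecStalk (genericPoint W)) pt = _
    rw [Scheme.Hom.comp_apply]
    exact (congrArg (W.fromSpecStalk (genericPoint W))
      (Subsingleton.elim (α := PrimeSpectrum W.functionField) _ (IsLocalRing.closedPoint W.functionField))).trans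
      Scheme.fromSpecStalk_closedPoint
  -- conjugates
  have key : ∀ i (b : Spec (CommRingCat.of (GenField W)) ⟶ pullback p q), b ≫ π = ω → b pt = ξ i →
      Nat.card {j // a j = b} = Nat.card {j // a j = a i} := by
    intro i b hb hbp
    obtain ⟨γ, hγω, hγ⟩ := conj_of_apply_eq hW1 (a i) b (haω i) hb hbp.symm
    let G := Spec.map (CommRingCat.ofHom γ.toRingHom)
    haveI : IsIso (CommRingCat.ofHom γ.toRingHom) := γ.toCommRingCatIso.isIso_hom
    obtain ⟨σ, hσ⟩ := exists_perm hS.isQuot τ (G ≫ τ)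
      (by rw [Category.assoc, hτ, ← Category.assoc, hγω])
    have hGa : ∀ j, G ≫ a j = a (σ j) := by
      intro j
      apply pullback.hom_ext
      · simp only [a, Category.assoc, pullback.lift_fst]
        rw [hσ j, Category.assoc]
      · rw [Category.assoc, haω, haω, hγω]
    refine (Nat.card_congr (σ.subtypeEquiv fun j => ?_)).symm
    rw [← hGa, ← hγ, cancel_epi]
  -- the cycle
  let Γf : ↥(pullback p q) → ℤ := fun x =>
    if h : ∃ i, ξ i = x then (Nat.card {j // a j = a h.choose} : ℤ) else 0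
  have hΓ : ∀ (i : Fin d) (b : Spec (CommRingCat.of (GenField W)) ⟶ pullback p q), b ≫ π = ω → b pt = ξ i →
      Γf (ξ i) = (Nat.card {j // a j = b} : ℤ) := by
    intro i b hb hbp
    have h : ∃ i', ξ i' = ξ i := ⟨i, rfl⟩
    show dite _ _ _ = _
    rw [dif_pos h, key h.choose b hb (hbp.trans h.choose_spec.symm)]
  have hmem : ∀ i, Γf (ξ i) ≠ 0 := fun i => by
    rw [hΓ i (a i) (haω i) rfl, Nat.cast_ne_zero, Nat.card_ne_zero]
    exact ⟨⟨⟨i, rfl⟩⟩, inferInstance⟩
  have hsupp : ∀ x, Γf x ≠ 0 → ∃ i, ξ i = x := fun x hx => by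
    by_contra h
    exact hx (dif_neg h)
  have hfs : (Function.support Γf).Finite :=
    (Set.finite_range ξ).subset fun x hx => hsupp x hx
  let Γc : AlgebraicCycle (pullback p q) ℤ :=
    { toFun := Γf
      supportWithinDomain' := Set.subset_univ _
      supportLocallyFiniteWithinDomain' := fun z _ => ⟨Set.univ, Filter.univ_mem, hfs.subset Set.inter_subset_right⟩ }
  -- the scheme of lifts
  let tω : Spec (CommRingCat.of (GenField W)) ⟶ T := pullback.lift ω τ hτ.symm
  let e : Fin d → (T ⟶ pullback p q) := fun i =>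
    pullback.lift (pullback.snd F qS ≫ WidePullback.π (fun _ => p) i) (pullback.fst F qS) (by
      rw [Category.assoc, WidePullback.π_arrow, ← hS.over, ← Category.assoc, ← pullback.condition, Category.assoc, hF])
  have heπ : ∀ i, e i ≫ π = pullback.fst F qS := fun i => pullback.lift_snd _ _ _
  have hte : ∀ i, tω ≫ e i = a i := fun i => by
    apply pullback.hom_ext
    · simp only [e, tω, a, Category.assoc, pullback.lift_fst]
      rw [← Category.assoc, pullback.lift_snd]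
    · simp only [e, tω, a, Category.assoc, pullback.lift_snd, pullback.lift_fst]
  have hfinT : IsFinite (pullback.fst F qS) := inferInstance
  have hfibres : ∀ x, Γf x ≠ 0 → ∀ w : W, (closure {x} ∩ π ⁻¹' {w}).Finite := by
    intro x hx w
    obtain ⟨i, rfl⟩ := hsupp x hx
    haveI : IsProper (e i ≫ π) := by rw [heπ]; infer_instance
    haveI : IsProper (e i) := IsProper.of_comp (e i) π
    have hsub : closure {ξ i} ⊆ Set.range (e i) :=
      closure_minimal (Set.singleton_subset_iff.2 ⟨tω pt, congrArg (fun φ => φ pt) (hte i)⟩)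
        (e i).isClosedMap.isClosed_range
    refine (((pullback.fst F qS).finite_preimage_singleton w).image (e i)).subset ?_
    rintro z ⟨hz, hzw⟩
    obtain ⟨t, rfl⟩ := hsub hz
    refine ⟨t, ?_, rfl⟩
    have := congrArg (fun φ => φ t) (heπ i)
    exact this.symm.trans hzw
  refine ⟨Γc, fun x hx => ?_, fun x => ?_, hfibres, fun u hu hflat => ?_⟩
  · by_contra hne
    obtain ⟨i, rfl⟩ := hsupp x hne
    apply hx
    obtain ⟨m, hm, hδe⟩ := hδ (ξ i)
    rw [hδe, zero_add, Nat.cast_inj]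
    have h1 : VarDim.rdeg π (ξ i) = 0 := by
      haveI : IsFinite (e i ≫ π) := by rw [heπ]; exact hfinT
      have h := rdeg_eq_zero_of_finite (e i) π (tω pt)
      rwa [show e i (tω pt) = ξ i from congrArg (fun φ => φ pt) (hte i)] at h
    have hπ : π (ξ i) = genericPoint W := by
      rw [← hωpt]
      exact congrArg (fun φ => φ pt) (haω i)
    have h2 : VarDim.rdeg (pullback.fst p q ≫ p) (ξ i) = m := hm
    rw [VarDim.rdeg_congr pullback.condition, VarDim.rdeg_comp, h1, add_zero, ← VarDim.tdeg_eq_rdeg,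
      ← VarDim.deg_eq_tdeg, Nat.cast_inj] at h2
    rw [← h2]
    exact congrArg (VarDim.deg q) hπ
  · show 0 ≤ Γf x
    by_cases h : ∃ i, ξ i = x
    · rw [show Γf x = _ from dif_pos h]; exact Int.natCast_nonneg _
    · rw [show Γf x = _ from dif_neg h]
  -- the fibre over `u`
  let w0 := u pk
  let ι := {x : ↥(pullback p q) // Γf x ≠ 0}
  haveI : Finite ι := hfs.to_subtype
  haveI : Fintype ι := Fintype.ofFinite ι
  haveI hfinite : ∀ j : ι, IsFinite (compι j.1 ≫ π) := fun j => isFinite_comp j.1 π (hfibres j.1 j.2)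
  have hnear : ∀ j : ι, ∃ U : W.Opens, w0 ∈ U ∧ ∀ V : W.Opens, IsAffineOpen V → V ≤ U →
      letI := H23.CoverPush.alg (compι j.1 ≫ π) V
      Module.Free Γ(W, V) Γ(comp j.1, (compι j.1 ≫ π) ⁻¹ᵁ V) ∧
        Module.Finite Γ(W, V) Γ(comp j.1, (compι j.1 ≫ π) ⁻¹ᵁ V) := fun j =>
    exists_free_nhd_of_flat_fibre _ w0 fun z hz => by
      refine flat_stalkMap_of_locQuot _ _ z ((genericPoint_specializes z).map (compι j.1).continuous) ?_
      have aux : ∀ η (h : η ⤳ compι j.1 z), η = j.1 →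
          ((Ideal.Quotient.mk (RingHom.ker (Cyc.specMap (compι j.1 z) η h))).comp
            ((pullback.snd p q).stalkMap (compι j.1 z)).hom).Flat := by
        rintro η h rfl; exact hflat _ j.2 _ h hz
      exact aux _ _ (compι_genericPoint j.1)
  choose U hwU hU using hnear
  obtain ⟨_, ⟨W0, hW0, rfl⟩, hwW0, hle⟩ := W.isBasis_affineOpens.exists_subset_of_mem_open
    (Set.mem_iInter.2 hwU) (isOpen_iInter_of_finite fun j => (U j).2)
  have hW0' : IsAffineOpen W0 := hW0
  haveI : Nonempty W0 := ⟨⟨w0, hwW0⟩⟩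
  have hfree := fun j => hU j W0 hW0' fun x hx => Set.mem_iInter.1 (hle hx) j
  let R := Γ(W, W0)
  let αk : CommRingCat.of k ⟶ R := Spec.preimage (hW0'.fromSpec ≫ q)
  letI : Algebra k R := αk.hom.toAlgebra
  haveI : CharZero R := charZero_of_injective_algebraMap (algebraMap k R).injective
  haveI : FaithfulSMul R (GenField W) :=
    (faithfulSMul_iff_algebraMap_injective R (GenField W)).2 (genEval_injective W0)
  -- components
  let f : ∀ j : ι, comp j.1 ⟶ W := fun j => compι j.1 ≫ π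
  have hgen : ∀ j : ι, f j (genericPoint (comp j.1)) = genericPoint W := fun j => by
    show π (compι j.1 _) = _
    rw [compι_genericPoint]
    obtain ⟨i, hi⟩ := hsupp j.1 j.2
    rw [← hi, ← hωpt]
    exact congrArg (fun φ => φ pt) (haω i)
  haveI : ∀ j : ι, Nonempty ((f j) ⁻¹ᵁ W0 : (comp j.1).Opens) := fun j => ⟨⟨genericPoint (comp j.1), by
    show f j (genericPoint (comp j.1)) ∈ W0
    rw [hgen]
    exact (genericPoint_specializes w0).mem_open W0.2 hwW0⟩⟩
  let C : ι → Type u := fun j => Γ(comp j.1, (f j) ⁻¹ᵁ W0)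
  letI : ∀ j, CommRing (C j) := fun j => inferInstanceAs (CommRing Γ(comp j.1, (f j) ⁻¹ᵁ W0))
  haveI : ∀ j, IsDomain (C j) := fun j => inferInstanceAs (IsDomain Γ(comp j.1, (f j) ⁻¹ᵁ W0))
  letI : ∀ j, Algebra R (C j) := fun j => H23.CoverPush.alg (f j) W0
  haveI : ∀ j, Module.Free R (C j) := fun j => (hfree j).1
  haveI : ∀ j, Module.Finite R (C j) := fun j => (hfree j).2
  have htr : ∀ j, Finite (C j →ₐ[R] BigRing W0) ∧ ∀ b : C j,
      algebraMap R (BigRing W0) (Algebra.trace R (C j) b) = ∑ᶠ σ : C j →ₐ[R] BigRing W0, σ b :=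
    fun j => trace_eq_sum_integralClosure
  haveI : ∀ j, Finite (C j →ₐ[R] BigRing W0) := fun j => (htr j).1
  let B : (Σ j : ι, C j →ₐ[R] BigRing W0) → (Spec (CommRingCat.of (BigRing W0)) ⟶ pullback p q) := fun y =>
    bigLift (f y.1) hW0' y.2 ≫ compι y.1.1
  let b : (Σ j : ι, C j →ₐ[R] BigRing W0) → (Spec (CommRingCat.of (GenField W)) ⟶ pullback p q) := fun y =>
    bigPt W0 ≫ B y
  have hBπ : ∀ y, B y ≫ π = bigMap hW0' := fun y => by
    rw [show B y ≫ π = bigLift (f y.1) hW0' y.2 ≫ f y.1 from Category.assoc _ _ _, bigLift_comp]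
  have hbω : ∀ y, b y ≫ π = ω := fun y => by
    rw [show b y ≫ π = bigPt W0 ≫ B y ≫ π from Category.assoc _ _ _, hBπ, bigPt_bigMap]
  have hbpt : ∀ y, b y pt = y.1.1 := fun y => by
    show ((bigPt W0 ≫ bigLift (f y.1) hW0' y.2 ≫ compι y.1.1)) pt = _
    rw [← Category.assoc, Scheme.Hom.comp_apply, bigPt_bigLift_apply, compι_genericPoint]
  have hbinj : Function.Injective b := by
    rintro ⟨j, σ⟩ ⟨j', σ'⟩ h
    obtain rfl : j = j' := Subtype.ext ((hbpt ⟨j, σ⟩).symm.trans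
      ((congrArg (fun φ => φ pt) h).trans (hbpt ⟨j', σ'⟩)))
    refine Sigma.ext rfl (heq_of_eq (bigLift_injective (f j) hW0' ?_))
    simp only [b, B, ← Category.assoc, cancel_mono] at h
    exact h
  -- coordinates
  obtain ⟨sT, hsT⟩ := exists_bigLift (pullback.fst F qS) hW0' tω (pullback.lift_fst _ _ _)
  let hT : Spec (CommRingCat.of (BigRing W0)) ⟶ T := bigLift (pullback.fst F qS) hW0' sT
  have hT1 : hT ≫ pullback.fst F qS = bigMap hW0' := bigLift_comp _ _ _
  let A : Fin d → (Spec (CommRingCat.of (BigRing W0)) ⟶ pullback p q) := fun i => hT ≫ e i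
  have hAπ : ∀ i, A i ≫ π = bigMap hW0' := fun i => by rw [Category.assoc, heπ, hT1]
  have hAa : ∀ i, bigPt W0 ≫ A i = a i := fun i => by
    rw [← hte, ← hsT, Category.assoc]
  have hΦ : ∀ i, ∃ y, B y = A i := by
    intro i
    obtain ⟨c, hc⟩ := H23.RedSub.exists_lift_closed (a i) (compι (ξ i)) (by
      rintro _ ⟨z, rfl⟩
      rw [range_compι, Subsingleton.elim (α := PrimeSpectrum (GenField W)) z pt]
      exact subset_closure rfl)
    let j : ι := ⟨ξ i, hmem i⟩
    have hcf : c ≫ f j = genGeom W := by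
      rw [show c ≫ f j = (c ≫ compι (ξ i)) ≫ π from (Category.assoc _ _ _).symm, hc, haω]
    obtain ⟨σ, hσ⟩ := exists_bigLift (f j) hW0' c hcf
    refine ⟨⟨j, σ⟩, ext_of_isDominant_of_isSeparated (π ≫ q) ?_ (bigPt W0) ?_⟩
    · rw [← Category.assoc, ← Category.assoc, hBπ, hAπ]
    · rw [hAa, ← hc, ← hσ, Category.assoc]
  choose Φ hΦ using hΦ
  have hcount : ∀ y, Γf y.1.1 = (Nat.card {i // Φ i = y} : ℤ) := by
    intro y
    obtain ⟨i0, hi0⟩ := hsupp y.1.1 y.1.2
    rw [← hi0, hΓ i0 (b y) (hbω y) ((hbpt y).trans hi0.symm)]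
    congr 1
    refine Nat.card_congr (Equiv.subtypeEquivRight fun i => ?_)
    rw [← hbinj.eq_iff, show b (Φ i) = bigPt W0 ≫ A i from congrArg (bigPt W0 ≫ ·) (hΦ i), hAa]
  obtain ⟨χ, hχ⟩ := exists_residue hW0' q u hu hwW0
  refine ⟨Spec.map (CommRingCat.ofHom χ) ≫ hT ≫ pullback.snd F qS, ?_, fun x => ?_⟩
  · rw [Category.assoc, Category.assoc, ← pullback.condition, ← hχ, ← hT1]
    simp only [Category.assoc]
  let v := AlgEqCyc.slice p q u hu x
  have hv : π v = u pk := by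
    rw [← Scheme.Hom.comp_apply, AlgEqCyc.slice, pullback.lift_snd]
    exact congrArg u (Subsingleton.elim (α := PrimeSpectrum k) _ _)
  let Q : (Σ j : ι, C j →ₐ[R] BigRing W0) → Prop := fun y => (Spec.map (CommRingCat.ofHom χ) ≫ B y) pk = v
  have hQ : ∀ i, ((Spec.map (CommRingCat.ofHom χ) ≫ hT ≫ pullback.snd F qS) ≫
      WidePullback.π (fun _ => p) i) pk = x ↔ Q (Φ i) := fun i => by
    show _ ↔ (Spec.map (CommRingCat.ofHom χ) ≫ B (Φ i)) pk = v
    rw [hΦ i, apply_eq_slice_iff u hu _ (by rw [Category.assoc, hAπ, hχ]) x]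
    simp only [A, e, Category.assoc, pullback.lift_fst]
    exact Iff.rfl
  haveI : ∀ j, Fintype (C j →ₐ[R] BigRing W0) := fun j => Fintype.ofFinite _
  let E : {i // Q (Φ i)} ≃ Σ j : ι, Σ σ : {σ : C j →ₐ[R] BigRing W0 // Q ⟨j, σ⟩}, {i // Φ i = ⟨j, σ.1⟩} :=
    { toFun := fun i => ⟨(Φ i.1).1, ⟨(Φ i.1).2, i.2⟩, i.1, rfl⟩
      invFun := fun y => ⟨y.2.2.1, y.2.2.2.symm ▸ y.2.1.2⟩
      left_inv := fun _ => rfl
      right_inv := by
        rintro ⟨j, ⟨σ, hσ⟩, i, hi⟩
        obtain ⟨rfl, h⟩ := Sigma.ext_iff.1 hi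
        cases eq_of_heq h
        rfl }
  rw [Nat.card_congr (Equiv.subtypeEquivRight hQ), Nat.card_congr E]
  have hcard : Nat.card (Σ j : ι, Σ σ : {σ : C j →ₐ[R] BigRing W0 // Q ⟨j, σ⟩}, {i // Φ i = ⟨j, σ.1⟩}) =
      ∑ j : ι, ∑ σ : {σ : C j →ₐ[R] BigRing W0 // Q ⟨j, σ⟩}, Nat.card {i // Φ i = ⟨j, σ.1⟩} := by
    rw [Nat.card_sigma]
    exact Finset.sum_congr rfl fun j _ => Nat.card_sigma
  rw [hcard]
  haveI : Fintype {w : ↥(pullback p q) // Γc w ≠ 0 ∧ w ⤳ v} :=
    (hfs.subset fun w (hw : Γc w ≠ 0 ∧ w ⤳ v) => hw.1).fintype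
  show (∑ᶠ w : {w : ↥(pullback p q) // Γc w ≠ 0 ∧ w ⤳ v},
    Γc w.1 * (AlgEqCyc.fibreMult π v w.1 w.2.2 : ℤ)) = _
  have hzero : ∀ j : ι, ¬ j.1 ⤳ v →
      ∑ σ : {σ : C j →ₐ[R] BigRing W0 // Q ⟨j, σ⟩}, Nat.card {i // Φ i = ⟨j, σ.1⟩} = 0 := by
    intro j hj
    haveI : IsEmpty {σ : C j →ₐ[R] BigRing W0 // Q ⟨j, σ⟩} :=
      ⟨fun σ => hj (specializes_iff_mem_closure.2 ((range_compι j.1).le
        ⟨(Spec.map (CommRingCat.ofHom χ) ≫ bigLift (f j) hW0' σ.1) pk, σ.2⟩))⟩
    exact Finset.sum_of_isEmpty _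
  rw [finsum_eq_sum_of_fintype,
    ← Finset.sum_filter_of_ne (s := Finset.univ) (p := fun j : ι => j.1 ⤳ v)
      (f := fun j => ∑ σ : {σ : C j →ₐ[R] BigRing W0 // Q ⟨j, σ⟩}, Nat.card {i // Φ i = ⟨j, σ.1⟩})
      (fun j _ hne => by by_contra hn; exact hne (hzero j hn)),
    ← Finset.sum_subtype_eq_sum_filter, Finset.subtype_univ, Nat.cast_sum]
  refine Fintype.sum_equiv (Equiv.subtypeSubtypeEquivSubtypeInter (fun w => Γc w ≠ 0)
    (fun w => w ⤳ v)).symm _ _ fun w => ?_
  haveI : IsFinite (compι w.1 ≫ π) := hfinite ⟨w.1, w.2.1⟩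
  have hm := card_points_eq_fibreMult q π w.1 hW0' (hfree ⟨w.1, w.2.1⟩) (htr ⟨w.1, w.2.1⟩).1
    (htr ⟨w.1, w.2.1⟩).2 u hu χ
    (by rw [CommRingCat.ofHom_comp, Spec.map_comp, Category.assoc]; exact hχ) v hv w.2.2
  rw [← hm, Nat.cast_sum]
  refine Eq.trans ?_ (Finset.sum_congr rfl fun σ _ => hcount ⟨⟨w.1, w.2.1⟩, σ.1⟩)
  show Γf w.1 * _ = ∑ _σ, Γf w.1
  rw [Finset.sum_const, Finset.card_univ, ← Nat.card_eq_fintype_card, nsmul_eq_mul, mul_comm]
  rfl

end Groth.Agent.ZBCorrPt
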