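import Groth.Agent.AlgEqLib.Graph
import Groth.Agent.QCoh.Devissage
import Groth.Agent.H23.CoverPush
import Mathlib.AlgebraicGeometry.ZariskisMainTheorem
import Mathlib.AlgebraicGeometry.Morphisms.Flat
import Mathlib.AlgebraicGeometry.Morphisms.FlatRank
import Mathlib.AlgebraicGeometry.Noetherian
import Mathlib.AlgebraicGeometry.Morphisms.UniversallyOpen

/-!
# Components of a family of cycles: closures of points, fibre multiplicities, flatness, local freeness
-/

set_option autoImplicit false
set_option backward.isDefEq.respectTransparency false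
set_option backward.isDefEq.respectTransparency.types false

universe u

open CategoryTheory CategoryTheory.Limits AlgebraicGeometry TopologicalSpace

noncomputable section

namespace Groth.Agent.ZBCorrPt

variable {P C Z : Scheme.{u}} [IsIntegral Z] (g : Z ⟶ P) [IsClosedImmersion g] (π : P ⟶ C)

/-- The multiplicity in a fibre of an integral closed subscheme is computed on it. -/
theorem fibreMult_eq_length (z : Z) (h : g (genericPoint Z) ⤳ g z) :
    AlgEqCyc.fibreMult π (g z) (g (genericPoint Z)) h =
      (Module.length (Z.presheaf.stalk z) (Z.presheaf.stalk z ⧸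
        (IsLocalRing.maximalIdeal (C.presheaf.stalk (π (g z)))).map
          ((g.stalkMap z).hom.comp (π.stalkMap (g z)).hom))).toNat := by
  let φ : P.presheaf.stalk (g z) →+* Z.presheaf.stalk z := (g.stalkMap z).hom
  have hφ : Function.Surjective φ := g.stalkMap_surjective z
  let K : Ideal (P.presheaf.stalk (g z)) := RingHom.ker (Cyc.specMap (g z) (g (genericPoint Z)) h)
  have hK : K = RingHom.ker φ := AlgEqLib.ker_specMap_eq g z h
  let m := IsLocalRing.maximalIdeal (C.presheaf.stalk (π (g z)))
  let I : Ideal (Cyc.LocQuot (g z) (g (genericPoint Z)) h) :=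
    m.map ((Ideal.Quotient.mk K).comp (π.stalkMap (g z)).hom)
  let J : Ideal (Z.presheaf.stalk z) := m.map (φ.comp (π.stalkMap (g z)).hom)
  let f : P.presheaf.stalk (g z) →ₗ[P.presheaf.stalk (g z)]
      Cyc.LocQuot (g z) (g (genericPoint Z)) h ⧸ I := Algebra.linearMap _ _
  have hf : Function.Surjective f := fun q => by
    obtain ⟨q₁, rfl⟩ := Ideal.Quotient.mk_surjective q
    obtain ⟨x, rfl⟩ := Ideal.Quotient.mk_surjective q₁
    exact ⟨x, rfl⟩
  letI : Algebra (P.presheaf.stalk (g z)) (Z.presheaf.stalk z) := φ.toAlgebra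
  let f' : P.presheaf.stalk (g z) →ₗ[P.presheaf.stalk (g z)] Z.presheaf.stalk z ⧸ J :=
    Algebra.linearMap _ _
  have hf' : Function.Surjective f' := fun q => by
    obtain ⟨q₁, rfl⟩ := Ideal.Quotient.mk_surjective q
    obtain ⟨x, rfl⟩ := hφ q₁
    exact ⟨x, rfl⟩
  have hker : LinearMap.ker f = LinearMap.ker f' := by
    have h1 : LinearMap.ker f = I.comap (Ideal.Quotient.mk K) := by
      ext x; exact Ideal.Quotient.eq_zero_iff_mem
    have h2 : LinearMap.ker f' = J.comap φ := by
      ext x; exact Ideal.Quotient.eq_zero_iff_mem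
    rw [h1, h2]
    show (m.map ((Ideal.Quotient.mk K).comp _)).comap _ = (m.map (φ.comp _)).comap _
    rw [← Ideal.map_map, ← Ideal.map_map, Ideal.comap_map_of_surjective _ Ideal.Quotient.mk_surjective,
      Ideal.comap_map_of_surjective _ hφ, ← RingHom.ker_eq_comap_bot, ← RingHom.ker_eq_comap_bot,
      Ideal.mk_ker, hK]
  refine congrArg ENat.toNat ?_
  rw [← Module.length_eq_of_surjective (S := P.presheaf.stalk (g z)) (R := Z.presheaf.stalk z)
    (M := Z.presheaf.stalk z ⧸ J) hφ, ← (f.quotKerEquivOfSurjective hf).length_eq,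
    ← (f'.quotKerEquivOfSurjective hf').length_eq, hker]

/-- Flatness of the local ring of the closure gives flatness of the subscheme. -/
theorem flat_stalkMap_of_locQuot (z : Z) (h : g (genericPoint Z) ⤳ g z)
    (hf : ((Ideal.Quotient.mk (RingHom.ker (Cyc.specMap (g z) (g (genericPoint Z)) h))).comp
      (π.stalkMap (g z)).hom).Flat) :
    ((g ≫ π).stalkMap z).hom.Flat := by
  let e : Cyc.LocQuot (g z) (g (genericPoint Z)) h ≃+* Z.presheaf.stalk z :=
    (Ideal.quotEquivOfEq (AlgEqLib.ker_specMap_eq g z h)).trans
      (RingHom.quotientKerEquivOfSurjective (g.stalkMap_surjective z))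
  have h1 := hf.comp (RingHom.Flat.of_bijective (f := e.toRingHom) e.bijective)
  rw [Scheme.Hom.stalkMap_comp, CommRingCat.hom_comp]
  exact h1

omit g π

variable (ξ : P)

/-- The closure of a point with its reduced structure. -/
abbrev comp : Scheme.{u} := (Scheme.IdealSheafData.vanishingIdeal (Closeds.closure {ξ})).subscheme

/-- Its immersion. -/
abbrev compι : comp ξ ⟶ P := (Scheme.IdealSheafData.vanishingIdeal (Closeds.closure {ξ})).subschemeι

theorem range_compι : Set.range (compι ξ) = closure {ξ} := H23.RedSub.range_vanishingIdeal _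

instance isIntegral_comp : IsIntegral (comp ξ) := QCoh.isIntegral_closure_point ξ

theorem compι_genericPoint : compι ξ (genericPoint (comp ξ)) = ξ := by
  have h1 := (genericPoint_spec (comp ξ)).image (compι ξ).continuous
  rw [Set.image_univ, range_compι, closure_closure] at h1
  exact h1.eq isGenericPoint_closure

/-- The closure of a point with finite fibres is finite over a base over which the space is proper. -/
theorem isFinite_comp (π : P ⟶ C) [IsProper π]
    (hfin : ∀ c : C, (closure {ξ} ∩ π ⁻¹' {c}).Finite) : IsFinite (compι ξ ≫ π) := by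
  haveI : LocallyQuasiFinite (compι ξ ≫ π) := by
    refine LocallyQuasiFinite.of_finite_preimage_singleton _ fun c => ?_
    refine ((hfin c).preimage (compι ξ).isClosedEmbedding.injective.injOn).subset fun z hz => ?_
    exact ⟨(range_compι ξ).le ⟨z, rfl⟩, hz⟩
  exact IsFinite.of_isProper_of_locallyQuasiFinite _

omit ξ in
/-- A flat morphism from an integral scheme to an integral scheme takes generic point to generic point. -/
theorem genericPoint_map {Z' W : Scheme.{u}} [IsIntegral Z'] [IsIntegral W] (f : Z' ⟶ W) [Flat f] :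
    f (genericPoint Z') = genericPoint W := by
  obtain ⟨z', -, hz'⟩ := Flat.generalizingMap f (genericPoint_specializes (f (genericPoint Z')))
  have h : f (genericPoint Z') ⤳ genericPoint W := hz' ▸ (genericPoint_specializes z').map f.continuous
  exact (genericPoint_specializes (f (genericPoint Z'))).antisymm h |>.eq.symm

omit ξ in
/-- A finite flat morphism to an irreducible locally Noetherian scheme is free over small affine opens. -/
theorem exists_free_nhd {Z' W : Scheme.{u}} (f : Z' ⟶ W) [IsFinite f] [Flat f] [IsLocallyNoetherian W]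
    [IrreducibleSpace W] (w : W) :
    ∃ U : W.Opens, w ∈ U ∧ ∀ V : W.Opens, IsAffineOpen V → V ≤ U →
      letI := H23.CoverPush.alg f V
      Module.Free Γ(W, V) Γ(Z', f ⁻¹ᵁ V) ∧ Module.Finite Γ(W, V) Γ(Z', f ⁻¹ᵁ V) := by
  haveI : LocallyOfFinitePresentation f := LocallyOfFinitePresentation.iff_locallyOfFiniteType.2 inferInstance
  have hcover : FinCov.IsCover f (f.finrank w) := ⟨⟨inferInstance, inferInstance, inferInstance⟩,
    fun y => f.isLocallyConstant_finrank.apply_eq_of_isPreconnected isPreconnected_univ trivial trivial⟩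
  obtain ⟨U, hwU, ⟨e⟩⟩ := H23.CoverPush.isFinLocFreeOfRank_push_of_isCover f hcover w
  refine ⟨U, hwU, fun V hV hVU => ?_⟩
  obtain ⟨l⟩ := QCoh.free_sections hV hVU e
  letI := H23.CoverPush.alg f V
  let l' : Γ(Z', f ⁻¹ᵁ V) ≃ₗ[Γ(W, V)] (ULift.{u} (Fin _) →₀ Γ(W, V)) :=
    { l with map_smul' := fun r x => l.map_smul r x }
  exact ⟨Module.Free.of_equiv l'.symm, Module.Finite.equiv l'.symm⟩

end Groth.Agent.ZBCorrPt
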