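import Mathlib.RingTheory.Trace.Basic
import Mathlib.RingTheory.Spectrum.Prime.Topology
import Mathlib.RingTheory.Spectrum.Prime.Noetherian
import Mathlib.RingTheory.Artinian.Module
import Mathlib.RingTheory.Localization.AtPrime.Basic

/-!
# Points of a finite algebra with a trace formula

For a finite algebra over a field of characteristic zero and a family of points whose sum is the trace, the number of
members of the family at a prime is the dimension of the local factor there.
-/

set_option autoImplicit false
universe u v w

open PrimeSpectrum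

namespace Groth.Agent.ZBCorrPt

theorem card_ker_eq_finrank {k : Type u} {A : Type v} {ι : Type w} [Field k] [CharZero k] [CommRing A] [Algebra k A]
    [Module.Finite k A] [Fintype ι] (ψ : ι → A →ₐ[k] k)
    (htr : ∀ a, Algebra.trace k A a = ∑ i, ψ i a) (Q : Ideal A) [Q.IsPrime] :
    Nat.card {i // RingHom.ker (ψ i) = Q} = Module.finrank k (Localization.AtPrime Q) := by
  classical
  haveI : IsArtinianRing A := IsArtinianRing.of_finite k A
  let P : PrimeSpectrum A := ⟨Q, inferInstance⟩
  let E := (toPiLocalizationEquiv (R := A)).toLinearEquiv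
  let s : Localization.AtPrime Q →ₗ[A] A :=
    E.symm.toLinearMap.comp (LinearMap.single A (fun p : PrimeSpectrum A => Localization.AtPrime p.asIdeal) P)
  let π : A →ₗ[A] Localization.AtPrime Q := Algebra.linearMap A _
  have hs : ∀ (x : Localization.AtPrime Q) (p : PrimeSpectrum A),
      algebraMap A (Localization.AtPrime p.asIdeal) (s x) =
        Pi.single (M := fun p : PrimeSpectrum A => Localization.AtPrime p.asIdeal) P x p :=
    fun x p => congrFun (E.apply_symm_apply
      (Pi.single (M := fun p : PrimeSpectrum A => Localization.AtPrime p.asIdeal) P x)) p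
  have hπs : π.comp s = LinearMap.id := by
    ext x
    exact (hs x P).trans (Pi.single_eq_same _ _)
  let e : A := s 1
  have hmul : Algebra.lmul k A e = (s.restrictScalars k).comp (π.restrictScalars k) := by
    ext a
    show e * a = s (algebraMap A _ a)
    rw [Algebra.algebraMap_eq_smul_one, map_smul, smul_eq_mul, mul_comm]
  have htrace : Algebra.trace k A e = (Module.finrank k (Localization.AtPrime Q) : k) := by
    haveI : Module.Finite k (Localization.AtPrime Q) :=
      Module.Finite.of_surjective (π.restrictScalars k) fun x => ⟨s x, LinearMap.congr_fun hπs x⟩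
    rw [Algebra.trace_apply, hmul, LinearMap.trace_comp_comm',
      show (π.restrictScalars k).comp (s.restrictScalars k) = LinearMap.id from
        LinearMap.ext fun x => LinearMap.congr_fun hπs x, LinearMap.trace_id]
  have hψ : ∀ i, ψ i e = if RingHom.ker (ψ i) = Q then (1 : k) else 0 := by
    intro i
    haveI hp : (RingHom.ker (ψ i)).IsPrime := RingHom.ker_isPrime _
    let p : PrimeSpectrum A := ⟨RingHom.ker (ψ i), hp⟩
    have hidem : e * e = e := by
      refine E.injective (funext fun r => ?_)
      show algebraMap A (Localization.AtPrime r.asIdeal) (e * e) =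
        algebraMap A (Localization.AtPrime r.asIdeal) e
      rw [map_mul, hs]
      rcases eq_or_ne r P with rfl | hne
      · rw [Pi.single_eq_same, one_mul]
      · rw [Pi.single_eq_of_ne hne, zero_mul]
    have h01 : ψ i e * (ψ i e - 1) = 0 := by
      rw [mul_sub, mul_one, ← map_mul, hidem, sub_self]
    have hunit : ∀ (r : PrimeSpectrum A), r.asIdeal = RingHom.ker (ψ i) → ∀ a : A,
        IsUnit (algebraMap A (Localization.AtPrime r.asIdeal) a) → ψ i a ≠ 0 :=
      fun r hr a ha h0 => (IsLocalization.AtPrime.isUnit_to_map_iff _ r.asIdeal a).1 ha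
        (hr.ge (RingHom.mem_ker.2 h0))
    split_ifs with h
    · have hne : ψ i e ≠ 0 := hunit P h.symm e (by
        rw [hs, Pi.single_eq_same]; exact isUnit_one)
      exact sub_eq_zero.1 ((mul_eq_zero.1 h01).resolve_left hne)
    · have hpP : p ≠ P := fun h' => h (congrArg PrimeSpectrum.asIdeal h')
      have hne : ψ i (e - 1) ≠ 0 := hunit p rfl (e - 1) (by
        rw [map_sub, map_one, hs, Pi.single_eq_of_ne hpP, zero_sub]; exact isUnit_one.neg)
      rw [map_sub, map_one] at hne
      exact (mul_eq_zero.1 h01).resolve_right hne
  have h := htr e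
  rw [htrace, Finset.sum_congr rfl fun i _ => hψ i, Finset.sum_boole] at h
  rw [Nat.card_eq_fintype_card, Fintype.card_subtype]
  exact_mod_cast h.symm

end Groth.Agent.ZBCorrPt
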