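import Groth.Agent.ZBCorrPt.Count
import Groth.Agent.DevK.FinrankLen
import Mathlib.RingTheory.Localization.Ideal
import Mathlib.LinearAlgebra.Matrix.Trace
import Mathlib.FieldTheory.IsAlgClosed.Basic

/-!
# Counting points in a fibre of a finite free algebra

For a finite free algebra with a trace formula at a rational point of the base, the number of points at a prime of the
fibre is the length of the local fibre ring.
-/

set_option autoImplicit false
universe u w

open IsLocalRing

namespace Groth.Agent.ZBCorrPt

theorem card_eq_length {k R B : Type u} [Field k] [IsAlgClosed k] [CharZero k] [CommRing R] [Algebra k R]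
    [CommRing B] [Algebra R B] [Module.Free R B] [Module.Finite R B]
    (e : R →ₐ[k] k) {J : Type w} [Fintype J] (ψ : J → B →+* k)
    (hψ : ∀ j r, ψ j (algebraMap R B r) = e r)
    (htr : ∀ b, e (Algebra.trace R B b) = ∑ j, ψ j b)
    (Q : Ideal B) [Q.IsPrime] (hQ : (RingHom.ker e).map (algebraMap R B) ≤ Q)
    (S : Type u) [CommRing S] [Algebra B S] [IsLocalization.AtPrime S Q] :
    Nat.card {j // RingHom.ker (ψ j) = Q} =
      (Module.length S
        (S ⧸ ((RingHom.ker e).map (algebraMap R B)).map (algebraMap B S))).toNat := by
  classical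
  let I := (RingHom.ker e).map (algebraMap R B)
  let A := B ⧸ I
  let φ : k →+* A := (Ideal.Quotient.mk I).comp ((algebraMap R B).comp (algebraMap k R))
  letI : Algebra k A := φ.toAlgebra
  have hkey : ∀ r : R, Ideal.Quotient.mk I (algebraMap R B r) = algebraMap k A (e r) := fun r => by
    refine Ideal.Quotient.eq.2 ?_
    show algebraMap R B r - algebraMap R B (algebraMap k R (e r)) ∈ I
    rw [← map_sub]
    refine Ideal.mem_map_of_mem _ (RingHom.mem_ker.2 ?_)
    rw [map_sub, AlgHom.commutes]
    exact sub_self (e r)
  -- a basis of the fibre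
  let ι := Module.Free.ChooseBasisIndex R B
  let b := Module.Free.chooseBasis R B
  have hI : ∀ x ∈ I, ∀ i, e (b.repr x i) = 0 := by
    intro x hx
    have hx' : x ∈ (RingHom.ker e) • (⊤ : Submodule R B) := by
      rw [Ideal.smul_top_eq_map]; exact hx
    refine Submodule.smul_induction_on hx' (fun r hr y _ i => ?_) (fun y z hy hz i => ?_)
    · rw [map_smul, Finsupp.smul_apply, smul_eq_mul, map_mul, RingHom.mem_ker.1 hr, zero_mul]
    · rw [map_add, Finsupp.add_apply, map_add, hy i, hz i, add_zero]
  have hmk : ∀ x : B, Ideal.Quotient.mk I x = ∑ i, e (b.repr x i) • Ideal.Quotient.mk I (b i) := by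
    intro x
    conv_lhs => rw [← b.sum_repr x, map_sum]
    exact Finset.sum_congr rfl fun i _ => by
      rw [Algebra.smul_def, map_mul, hkey, Algebra.smul_def]
  have hli : LinearIndependent k fun i => Ideal.Quotient.mk I (b i) := by
    refine Fintype.linearIndependent_iff.2 fun c hc i => ?_
    have h1 : ∑ j, algebraMap k R (c j) • b j ∈ I := by
      rw [← Ideal.Quotient.eq_zero_iff_mem, map_sum]
      refine Eq.trans (Finset.sum_congr rfl fun j _ => ?_) hc
      rw [Algebra.smul_def, map_mul, hkey, AlgHom.commutes, Algebra.smul_def]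
      rfl
    have h2 := hI _ h1 i
    rwa [b.repr_sum_self, AlgHom.commutes] at h2
  let bA : Module.Basis ι k A := Module.Basis.mk hli fun a _ => by
    obtain ⟨x, rfl⟩ := Ideal.Quotient.mk_surjective a
    rw [hmk]
    exact Submodule.sum_mem _ fun i _ => Submodule.smul_mem _ _ (Submodule.subset_span ⟨i, rfl⟩)
  haveI : Module.Finite k A := Module.Finite.of_basis bA
  have hrepr : ∀ x i, bA.repr (Ideal.Quotient.mk I x) i = e (b.repr x i) := by
    intro x i
    have : Ideal.Quotient.mk I x = ∑ j, e (b.repr x j) • bA j := by
      rw [hmk]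
      exact Finset.sum_congr rfl fun j _ => by rw [Module.Basis.mk_apply]
    rw [this, bA.repr_sum_self]
  have htrA : ∀ x : B, Algebra.trace k A (Ideal.Quotient.mk I x) = e (Algebra.trace R B x) := by
    intro x
    rw [Algebra.trace_eq_matrix_trace bA, Algebra.trace_eq_matrix_trace b]
    simp only [Matrix.trace, Matrix.diag_apply, map_sum]
    refine Finset.sum_congr rfl fun i _ => ?_
    rw [Algebra.leftMulMatrix_eq_repr_mul, Algebra.leftMulMatrix_eq_repr_mul, Module.Basis.mk_apply,
      ← map_mul, hrepr]
  -- the points of the fibre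
  have hψI : ∀ j, ∀ x ∈ I, ψ j x = 0 := fun j x hx => by
    have : I ≤ RingHom.ker (ψ j) := Ideal.map_le_iff_le_comap.2 fun r hr => by
      rw [Ideal.mem_comap, RingHom.mem_ker, hψ]
      exact hr
    exact this hx
  let ψA : J → A →ₐ[k] k := fun j =>
    { Ideal.Quotient.lift I (ψ j) (hψI j) with
      commutes' := fun c => by
        show ψ j (algebraMap R B (algebraMap k R c)) = c
        rw [hψ, AlgHom.commutes]
        rfl }
  have htr' : ∀ a, Algebra.trace k A a = ∑ j, ψA j a := fun a => by
    obtain ⟨x, rfl⟩ := Ideal.Quotient.mk_surjective a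
    rw [htrA, htr]
    rfl
  let QA := Q.map (Ideal.Quotient.mk I)
  haveI : QA.IsPrime := Ideal.map_isPrime_of_surjective Ideal.Quotient.mk_surjective
    (by rw [Ideal.mk_ker]; exact hQ)
  have hcomap : QA.comap (Ideal.Quotient.mk I) = Q := by
    rw [Ideal.comap_map_of_surjective _ Ideal.Quotient.mk_surjective, ← RingHom.ker_eq_comap_bot,
      Ideal.mk_ker, sup_eq_left]
    exact hQ
  have hcard : Nat.card {j // RingHom.ker (ψ j) = Q} = Module.finrank k (Localization.AtPrime QA) := by
    rw [← card_ker_eq_finrank ψA htr' QA]
    refine Nat.card_congr (Equiv.subtypeEquivRight fun j => ?_)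
    have hk : (RingHom.ker (ψA j)).comap (Ideal.Quotient.mk I) = RingHom.ker (ψ j) := rfl
    constructor
    · intro h
      exact Ideal.comap_injective_of_surjective _ Ideal.Quotient.mk_surjective
        (hk.trans (h.trans hcomap.symm))
    · intro h
      rw [← hk, h, hcomap]
  rw [hcard]
  -- the local ring of the fibre
  let T := S ⧸ I.map (algebraMap B S)
  haveI : IsLocalization.AtPrime T QA := by
    have hM : Algebra.algebraMapSubmonoid A Q.primeCompl = QA.primeCompl := by
      ext a
      constructor
      · rintro ⟨x, hx, rfl⟩ hmem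
        exact hx (hcomap.le hmem)
      · intro ha
        obtain ⟨x, rfl⟩ := Ideal.Quotient.mk_surjective a
        exact ⟨x, fun hx => ha (Ideal.mem_map_of_mem _ hx), rfl⟩
    have : IsLocalization (Algebra.algebraMapSubmonoid A Q.primeCompl) T := inferInstance
    rwa [hM] at this
  let E : Localization.AtPrime QA ≃ₐ[A] T := IsLocalization.algEquiv QA.primeCompl _ _
  haveI : IsLocalRing T := IsLocalization.AtPrime.isLocalRing T QA
  letI : Algebra k T := ((algebraMap A T).comp (algebraMap k A)).toAlgebra
  haveI : IsScalarTower k A T := IsScalarTower.of_algebraMap_eq' rfl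
  let Ek : Localization.AtPrime QA ≃ₗ[k] T := (E.restrictScalars k).toLinearEquiv
  haveI : Module.Finite k (Localization.AtPrime QA) := by
    haveI : IsArtinianRing A := IsArtinianRing.of_finite k A
    exact Module.Finite.of_surjective (IsScalarTower.toAlgHom k A (Localization.AtPrime QA)).toLinearMap
      (IsArtinianRing.localization_surjective QA.primeCompl _)
  haveI : Module.Finite k T := Module.Finite.equiv Ek
  haveI : IsArtinianRing T := IsArtinianRing.of_finite k T
  haveI : IsNoetherianRing T := IsNoetherianRing.of_finite k T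
  haveI : Module.Finite k (ResidueField T) :=
    Module.Finite.of_surjective (IsScalarTower.toAlgHom k T (ResidueField T)).toLinearMap
      residue_surjective
  have hres : Module.finrank k (ResidueField T) = 1 := by
    haveI : Algebra.IsIntegral k (ResidueField T) := Algebra.IsIntegral.of_finite k _
    exact ((LinearEquiv.ofBijective (Algebra.linearMap k (ResidueField T))
      IsAlgClosed.algebraMap_bijective_of_isIntegral).finrank_eq).symm.trans (Module.finrank_self k)
  have h3 := (DevK.finrank_eq_length_mul (k := k) (R := T) (M := T) fun p _ => by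
    haveI := p.2
    exact PrimeSpectrum.ext (IsLocalRing.eq_maximalIdeal inferInstance)).2
  rw [Ek.finrank_eq, h3, hres, mul_one]
  exact congrArg ENat.toNat (Module.length_eq_of_surjective (S := S) (R := T) (M := T)
    Ideal.Quotient.mk_surjective).symm

end Groth.Agent.ZBCorrPt
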