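import Mathlib.RingTheory.Trace.Basic
import Mathlib.RingTheory.Localization.NormTrace
import Mathlib.RingTheory.IntegralClosure.IntegralRestrict
import Mathlib.FieldTheory.Galois.Basic
import Mathlib.FieldTheory.Normal.Closure
import Mathlib.FieldTheory.AbsoluteGaloisGroup
import Mathlib.RingTheory.Ideal.GoingUp
import Mathlib.RingTheory.Invariant.Basic

/-!
# Splitting finitely many finite free domains over a normal domain

Over a normal domain of characteristic zero, finitely many finite free algebras that are domains have all their points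
in one integral extension with a finite group of automorphisms having the base as invariants, and the traces are the sums
over the points.
-/

set_option autoImplicit false
universe u

open scoped nonZeroDivisors IntermediateField

attribute [local instance] FractionRing.liftAlgebra FractionRing.isScalarTower_liftAlgebra

namespace Groth.Agent.ZBCorrPt

variable {R B : Type u} [CommRing R] [IsDomain R] [CommRing B] [IsDomain B] [Algebra R B]

lemma isLocalization_fractionRing_of_integral [Algebra.IsIntegral R B] [FaithfulSMul R B] :
    IsLocalization (Algebra.algebraMapSubmonoid B R⁰) (FractionRing B) := by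
  have hle : Algebra.algebraMapSubmonoid B R⁰ ≤ B⁰ := by
    rintro _ ⟨r, hr, rfl⟩
    exact mem_nonZeroDivisors_of_ne_zero
      ((map_ne_zero_iff _ (FaithfulSMul.algebraMap_injective R B)).2 (nonZeroDivisors.ne_zero hr))
  refine ⟨fun y => IsLocalization.map_units (FractionRing B) (⟨y.1, hle y.2⟩ : B⁰),
    fun z => ?_, fun h => ?_⟩
  · obtain ⟨⟨b, ⟨s, hs⟩⟩, hbs⟩ := IsLocalization.surj B⁰ z
    obtain ⟨r, hr, t, ht⟩ := (Algebra.IsIntegral.isIntegral (R := R) s).isAlgebraic.exists_nonzero_dvd hs
    refine ⟨(b * t, ⟨algebraMap R B r, r, mem_nonZeroDivisors_of_ne_zero hr, rfl⟩), ?_⟩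
    simp only at hbs ⊢
    rw [ht, map_mul, map_mul, ← mul_assoc, hbs]
  · exact ⟨1, congrArg _ (IsFractionRing.injective B (FractionRing B) h)⟩

/-- Finitely many finite free domains split in an integral extension with the base as invariants of a finite group. -/
theorem exists_splitting [CharZero R] [IsIntegrallyClosed R] {ι : Type*} [Finite ι] (C : ι → Type u)
    [∀ i, CommRing (C i)] [∀ i, IsDomain (C i)] [∀ i, Algebra R (C i)] [∀ i, Module.Free R (C i)]
    [∀ i, Module.Finite R (C i)] :
    ∃ (R' : Type u) (_ : CommRing R') (_ : IsDomain R') (_ : Algebra R R') (G : Type u) (_ : Group G)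
      (_ : Finite G) (_ : MulSemiringAction G R') (_ : SMulCommClass G R R'),
      Algebra.IsIntegral R R' ∧ Function.Injective (algebraMap R R') ∧ Algebra.IsInvariant R R' G ∧
        ∀ i, Finite (C i →ₐ[R] R') ∧
          ∀ b : C i, algebraMap R R' (Algebra.trace R (C i) b) = ∑ᶠ σ : C i →ₐ[R] R', σ b := by
  classical
  let F := FractionRing R
  let Ω := AlgebraicClosure F
  haveI : ∀ i, Algebra.IsIntegral R (C i) := fun i => inferInstance
  haveI : ∀ i, FaithfulSMul R (C i) := fun i => inferInstance
  haveI hloc : ∀ i, IsLocalization (Algebra.algebraMapSubmonoid (C i) R⁰) (FractionRing (C i)) :=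
    fun i => isLocalization_fractionRing_of_integral
  haveI hfd : ∀ i, FiniteDimensional F (FractionRing (C i)) := fun i =>
    Module.Finite.of_isLocalization R (C i) R⁰
  haveI : CharZero F := charZero_of_injective_algebraMap (IsFractionRing.injective R F)
  let N : IntermediateField F Ω :=
    ⨆ i, IntermediateField.normalClosure F (FractionRing (C i)) Ω
  haveI : FiniteDimensional F N :=
    IntermediateField.finiteDimensional_iSup_of_finite
  haveI : IsGalois F N := IsGalois.mk
  let R' := integralClosure R N
  let G := N ≃ₐ[F] N
  let act : MulSemiringAction G R' :=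
    { smul := fun g a => (g.restrictScalars R).mapIntegralClosure a
      one_smul := fun a => Subtype.ext rfl
      mul_smul := fun g g' a => Subtype.ext rfl
      smul_zero := fun g => map_zero (g.restrictScalars R).mapIntegralClosure
      smul_add := fun g => map_add (g.restrictScalars R).mapIntegralClosure
      smul_one := fun g => map_one (g.restrictScalars R).mapIntegralClosure
      smul_mul := fun g => map_mul (g.restrictScalars R).mapIntegralClosure }
  have hcomm : SMulCommClass G R R' := ⟨fun g r a => map_smul (g.restrictScalars R).mapIntegralClosure r a⟩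
  have hinjN : Function.Injective (algebraMap R N) := by
    rw [IsScalarTower.algebraMap_eq R F N]
    exact (algebraMap F N).injective.comp (IsFractionRing.injective R F)
  have hinj : Function.Injective (algebraMap R R') := fun a b h => hinjN (congrArg Subtype.val h)
  refine ⟨R', inferInstance, inferInstance, inferInstance, G, inferInstance, inferInstance, act, hcomm,
    inferInstance, hinj, ⟨fun x hx => ?_⟩, fun i => ?_⟩
  · have h1 : ∀ g : G, g (x : N) = x := fun g => congrArg Subtype.val (hx g)
    obtain ⟨c, hc⟩ := IntermediateField.mem_bot.1 ((IsGalois.mem_bot_iff_fixed (x : N)).2 h1)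
    have hci : IsIntegral R c := by
      have : IsIntegral R (algebraMap F N c) := hc.symm ▸ x.2
      exact (isIntegral_algebraMap_iff (algebraMap F N).injective).1 this
    obtain ⟨r, hr⟩ := IsIntegrallyClosed.isIntegral_iff.1 hci
    exact ⟨r, Subtype.ext (by
      rw [← hc, ← hr, ← IsScalarTower.algebraMap_apply]
      rfl)⟩
  let L := FractionRing (C i)
  have hrange : ∀ (σ : L →ₐ[F] Ω) (y : L), σ y ∈ N := fun σ y =>
    le_iSup (fun i => IntermediateField.normalClosure F (FractionRing (C i)) Ω) i
      (σ.fieldRange_le_normalClosure ⟨y, rfl⟩)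
  let Φ : (L →ₐ[F] Ω) → (C i →ₐ[R] R') := fun σ =>
    AlgHom.codRestrict
      (((σ.codRestrict N.toSubalgebra (hrange σ)).restrictScalars R).comp
        (IsScalarTower.toAlgHom R (C i) L) : C i →ₐ[R] N) (integralClosure R N)
      fun c => (Algebra.IsIntegral.isIntegral c).map _
  have hΦ : ∀ σ c, ((Φ σ c : N) : Ω) = σ (algebraMap (C i) L c) := fun σ c => rfl
  have hΦi : Function.Injective Φ := fun σ σ' h => by
    have hR : (σ.restrictScalars R).comp (IsScalarTower.toAlgHom R (C i) L) =
        (σ'.restrictScalars R).comp (IsScalarTower.toAlgHom R (C i) L) := by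
      ext c
      exact ((hΦ σ c).symm.trans (by rw [h])).trans (hΦ σ' c)
    refine AlgHom.coe_ringHom_injective (IsLocalization.ringHom_ext (C i)⁰ (RingHom.ext fun c => ?_))
    exact DFunLike.congr_fun hR c
  have hΦs : Function.Surjective Φ := fun τ => by
    let τΩ : C i →ₐ[R] Ω :=
      ((N.val.restrictScalars R).comp (integralClosure R N).val).comp τ
    have hτ : Function.Injective τΩ := by
      have hker : RingHom.ker τΩ = ⊥ := by
        haveI : (RingHom.ker τΩ).IsPrime := RingHom.ker_isPrime _
        refine Ideal.eq_bot_of_comap_eq_bot (R := R) ?_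
        refine le_bot_iff.1 fun r hr => ?_
        rw [Ideal.mem_comap, RingHom.mem_ker, AlgHom.commutes,
          IsScalarTower.algebraMap_apply R F Ω] at hr
        exact IsFractionRing.injective R F
          ((map_eq_zero (algebraMap F Ω)).1 hr |>.trans (map_zero _).symm)
      exact (RingHom.injective_iff_ker_eq_bot τΩ.toRingHom).2 hker
    let σR : L →ₐ[R] Ω := IsFractionRing.liftAlgHom hτ
    let σ : L →ₐ[F] Ω :=
      { σR.toRingHom with
        commutes' := fun c => by
          obtain ⟨a, s, rfl⟩ := IsLocalization.exists_mk'_eq R⁰ c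
          have hs : (algebraMap F Ω (algebraMap R F s)) ≠ 0 :=
            (map_ne_zero (algebraMap F Ω)).2
              (IsFractionRing.to_map_ne_zero_of_mem_nonZeroDivisors s.2)
          refine mul_right_cancel₀ hs ?_
          show σR (algebraMap F L _) * _ = _
          rw [← map_mul (algebraMap F Ω), IsLocalization.mk'_spec, ← IsScalarTower.algebraMap_apply,
            ← IsScalarTower.algebraMap_apply R F Ω, ← σR.commutes (s : R), ← map_mul,
            IsScalarTower.algebraMap_apply R F L, ← map_mul, IsLocalization.mk'_spec,
            ← IsScalarTower.algebraMap_apply, σR.commutes] }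
    refine ⟨σ, AlgHom.ext fun c => Subtype.ext (Subtype.ext ?_)⟩
    rw [hΦ]
    show IsFractionRing.liftAlgHom hτ (algebraMap (C i) L c) = _
    rw [IsFractionRing.liftAlgHom_apply, IsFractionRing.lift_algebraMap]
    rfl
  haveI : Finite (C i →ₐ[R] R') := Finite.of_surjective Φ hΦs
  refine ⟨inferInstance, fun b => ?_⟩
  letI := Fintype.ofFinite (C i →ₐ[R] R')
  rw [finsum_eq_sum_of_fintype, ← (Equiv.ofBijective Φ ⟨hΦi, hΦs⟩).sum_comp]
  refine Subtype.val_injective (Subtype.val_injective ?_)
  have h1 : algebraMap F Ω (Algebra.trace F L (algebraMap (C i) L b)) =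
      ∑ σ : L →ₐ[F] Ω, σ (algebraMap (C i) L b) := trace_eq_sum_embeddings Ω
  rw [Algebra.trace_localization R R⁰, ← IsScalarTower.algebraMap_apply] at h1
  simp only [AddSubmonoidClass.coe_finsetSum, Equiv.ofBijective_apply, hΦ]
  exact h1

end Groth.Agent.ZBCorrPt
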