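import Groth.Agent.ZH85.Quot.GeomPts
import Groth.Prelude.Def_SymProd
import Mathlib.AlgebraicGeometry.FunctionField
import Mathlib.AlgebraicGeometry.ResidueField
import Mathlib.FieldTheory.IsAlgClosed.AlgebraicClosure
import Mathlib.RingTheory.Localization.Integral

/-!
# Points over the geometric generic point and their conjugates
-/

set_option autoImplicit false
set_option backward.isDefEq.respectTransparency false
set_option backward.isDefEq.respectTransparency.types false

universe u

open CategoryTheory CategoryTheory.Limits AlgebraicGeometry TopologicalSpace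

noncomputable section

namespace Groth.Agent.ZBCorrPt

variable (W : Scheme.{u}) [IsIntegral W]

/-- An algebraic closure of the function field. -/
abbrev GenField : Type u := AlgebraicClosure W.functionField

/-- The geometric generic point. -/
def genGeom : Spec (CommRingCat.of (GenField W)) ⟶ W :=
  Spec.map (CommRingCat.ofHom (algebraMap W.functionField (GenField W))) ≫ W.fromSpecStalk (genericPoint W)

variable {W}

/-- Sections over a nonempty open, evaluated at the geometric generic point. -/
abbrev genEval (W0 : W.Opens) [Nonempty W0] : Γ(W, W0) →+* GenField W :=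
  algebraMap Γ(W, W0) (GenField W)

theorem genEval_eq (W0 : W.Opens) [Nonempty W0] :
    genEval W0 = (algebraMap W.functionField (GenField W)).comp (W.germToFunctionField W0).hom :=
  IsScalarTower.algebraMap_eq Γ(W, W0) W.functionField (GenField W)

theorem genEval_injective (W0 : W.Opens) [Nonempty W0] : Function.Injective (genEval W0) :=
  (genEval_eq W0).symm ▸
    (algebraMap W.functionField (GenField W)).injective.comp (W.germToFunctionField_injective W0)

theorem genGeom_eq {W0 : W.Opens} (hW0 : IsAffineOpen W0) [Nonempty W0] :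
    genGeom W = Spec.map (CommRingCat.ofHom (genEval W0)) ≫ hW0.fromSpec := by
  have hη : genericPoint W ∈ W0 :=
    (genericPoint_specializes (‹Nonempty W0›.some : W0).1).mem_open W0.2 (‹Nonempty W0›.some : W0).2
  rw [genEval_eq, genGeom, ← hW0.fromSpecStalk_eq_fromSpecStalk hη, IsAffineOpen.fromSpecStalk, ← Spec.map_comp_assoc]
  rfl

theorem isAlgebraic_genEval {W0 : W.Opens} (hW0 : IsAffineOpen W0) [Nonempty W0] :
    Algebra.IsAlgebraic Γ(W, W0) (GenField W) := by
  haveI := functionField_isFractionRing_of_isAffineOpen W W0 hW0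
  exact (IsFractionRing.comap_isAlgebraic_iff (A := Γ(W, W0)) (K := W.functionField) (C := GenField W)).2
    inferInstance

/-- Two embeddings of a field into algebraic closures of it differ by an isomorphism. -/
theorem exists_ringEquiv_comp_eq {L A B : Type u} [Field L] [Field A] [Field B] [IsAlgClosed A] [IsAlgClosed B]
    (φ : L →+* A) (ψ : L →+* B) (hφ : @Algebra.IsAlgebraic L A _ _ φ.toAlgebra)
    (hψ : @Algebra.IsAlgebraic L B _ _ ψ.toAlgebra) : ∃ γ : A ≃+* B, γ.toRingHom.comp φ = ψ := by
  letI := φ.toAlgebra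
  letI := ψ.toAlgebra
  haveI : IsAlgClosure L A := ⟨inferInstance, hφ⟩
  haveI : IsAlgClosure L B := ⟨inferInstance, hψ⟩
  let e := IsAlgClosure.equiv L A B
  exact ⟨e.toRingEquiv, RingHom.ext e.commutes⟩

variable {P : Scheme.{u}} {π : P ⟶ W}

theorem conj_of_apply_eq {W0 : W.Opens} (hW0 : IsAffineOpen W0) [Nonempty W0]
    (a b : Spec (CommRingCat.of (GenField W)) ⟶ P) (ha : a ≫ π = genGeom W) (hb : b ≫ π = genGeom W)
    (h : a (IsLocalRing.closedPoint (GenField W)) = b (IsLocalRing.closedPoint (GenField W))) :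
    ∃ γ : GenField W ≃+* GenField W, Spec.map (CommRingCat.ofHom γ.toRingHom) ≫ genGeom W = genGeom W ∧
      Spec.map (CommRingCat.ofHom γ.toRingHom) ≫ a = b := by
  have key : ∀ c : Spec (CommRingCat.of (GenField W)) ⟶ P,
      c (IsLocalRing.closedPoint (GenField W)) = a (IsLocalRing.closedPoint (GenField W)) →
      ∃ φ : P.residueField (a (IsLocalRing.closedPoint (GenField W))) ⟶ CommRingCat.of (GenField W),
        c = Spec.map φ ≫ P.fromSpecResidueField _ := by
    intro c hc
    obtain ⟨⟨x, φ⟩, rfl⟩ := (Scheme.SpecToEquivOfField (GenField W) P).symm.surjective c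
    change (Spec.map φ ≫ P.fromSpecResidueField x) (IsLocalRing.closedPoint (GenField W)) = _ at hc
    rw [Scheme.Hom.comp_apply, Scheme.fromSpecResidueField_apply] at hc
    subst hc
    exact ⟨φ, rfl⟩
  obtain ⟨φa, hφa⟩ := key a rfl
  obtain ⟨φb, hφb⟩ := key b h.symm
  generalize hξ : a (IsLocalRing.closedPoint (GenField W)) = ξ at φa φb hφa hφb
  have hπξ : π ξ ∈ W0 := by
    rw [← hξ, ← Scheme.Hom.comp_apply, ha, genGeom_eq hW0]
    exact hW0.range_fromSpec.le ⟨_, rfl⟩
  let ρ : Γ(W, W0) ⟶ P.residueField ξ := W.presheaf.germ W0 (π ξ) hπξ ≫ π.stalkMap ξ ≫ P.residue ξ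
  have hρ : Spec.map ρ ≫ hW0.fromSpec = P.fromSpecResidueField ξ ≫ π := by
    rw [Scheme.fromSpecResidueField, Category.assoc, ← Scheme.SpecMap_stalkMap_fromSpecStalk π,
      ← hW0.fromSpecStalk_eq_fromSpecStalk hπξ, IsAffineOpen.fromSpecStalk]
    simp only [ρ, Spec.map_comp, Category.assoc]
  have hcomp : ∀ φ : P.residueField ξ ⟶ CommRingCat.of (GenField W),
      (Spec.map φ ≫ P.fromSpecResidueField ξ) ≫ π = genGeom W → φ.hom.comp ρ.hom = genEval W0 := by
    intro φ hφ
    rw [Category.assoc, ← hρ, genGeom_eq hW0, ← Category.assoc, cancel_mono, ← Spec.map_comp] at hφ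
    exact congrArg CommRingCat.Hom.hom (Spec.map_injective hφ)
  have hal : ∀ φ : P.residueField ξ ⟶ CommRingCat.of (GenField W), φ.hom.comp ρ.hom = genEval W0 →
      @Algebra.IsAlgebraic (P.residueField ξ) (GenField W) _ _
        (φ.hom : P.residueField ξ →+* GenField W).toAlgebra := by
    intro φ hφ
    let φ' : P.residueField ξ →+* GenField W := φ.hom
    letI : Algebra (P.residueField ξ) (GenField W) := φ'.toAlgebra
    letI : Algebra Γ(W, W0) (P.residueField ξ) := ρ.hom.toAlgebra
    haveI : IsScalarTower Γ(W, W0) (P.residueField ξ) (GenField W) :=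
      IsScalarTower.of_algebraMap_eq fun r => (RingHom.congr_fun hφ r).symm
    haveI := isAlgebraic_genEval hW0
    refine Algebra.IsAlgebraic.extendScalars (R := Γ(W, W0)) (fun r s hrs => genEval_injective W0 ?_)
    rw [← hφ]
    exact congrArg φ.hom hrs
  have hca := hcomp φa (hφa ▸ ha)
  have hcb := hcomp φb (hφb ▸ hb)
  obtain ⟨γ, hγ⟩ := exists_ringEquiv_comp_eq φa.hom φb.hom (hal φa hca) (hal φb hcb)
  refine ⟨γ, ?_, ?_⟩
  · rw [genGeom_eq hW0, ← Spec.map_comp_assoc]
    congr 2
    apply CommRingCat.hom_ext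
    show γ.toRingHom.comp (genEval W0) = genEval W0
    rw [← hca, ← RingHom.comp_assoc, hγ, hcb]
    exact hca.symm
  · rw [hφa, hφb, ← Spec.map_comp_assoc]
    congr 2
    exact CommRingCat.hom_ext hγ

variable {X S : Scheme.{u}} {p : X ⟶ S} {d : ℕ} {Sy : Scheme.{u}}
  {qS : SymProd.fibPow p d ⟶ Sy}

theorem exists_perm (hq : SGA1.IsQuot (SymProd.permActU p d) qS) {Ω : Type u} [Field Ω] [IsAlgClosed Ω]
    (τ τ' : Spec (CommRingCat.of Ω) ⟶ SymProd.fibPow p d) (h : τ ≫ qS = τ' ≫ qS) :
    ∃ σ : Equiv.Perm (Fin d), ∀ i, τ ≫ WidePullback.π _ (σ i) = τ' ≫ WidePullback.π _ i := by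
  obtain ⟨g, hg⟩ := ZH85.Quot.exists_translate hq τ τ' h
  refine ⟨g.down.symm, fun i => ?_⟩
  rw [← hg, SymProd.permActU_hom, Category.assoc, SymProd.permHom_π]

end Groth.Agent.ZBCorrPt
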