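import Groth.Agent.ZBCorrPt.Fibre
import Groth.Agent.ZBCorrPt.Galois
import Groth.Agent.ZBCorrPt.Comp
import Groth.Agent.SGA1Q.Affine
import Groth.Prelude.Def_SymProd
import Groth.Prelude.Def_W4c5zerocyclessurfSym
import Mathlib.AlgebraicGeometry.AlgClosed.Basic

/-!
# The morphism to the symmetric product of an effective finite flat family, locally on the base
-/

set_option autoImplicit false
set_option backward.isDefEq.respectTransparency false
set_option backward.isDefEq.respectTransparency.types false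
set_option maxHeartbeats 1000000

universe u

open CategoryTheory CategoryTheory.Limits AlgebraicGeometry TopologicalSpace

noncomputable section

namespace Groth.Agent.ZBCorrPt

variable {k : Type u} [Field k] [IsAlgClosed k] [CharZero k]
variable {X W : Scheme.{u}} (p : X ⟶ Spec (CommRingCat.of k)) (q : W ⟶ Spec (CommRingCat.of k))

theorem exists_local [IsIntegral W] [LocallyOfFiniteType q] {d : ℕ} {Sy : Scheme.{u}}
    (qS : SymProd.fibPow p d ⟶ Sy) (g : Sy ⟶ Spec (CommRingCat.of k)) (hS : SymProd.IsSymProd p d qS g)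
    {W0 : W.Opens} (hW0 : IsAffineOpen W0) [Nonempty W0] (hR : IsIntegrallyClosed Γ(W, W0))
    (Γc : AlgebraicCycle (pullback p q) ℤ) (hsupp : (Function.support Γc).Finite) (hΓ0 : ∀ ξ, 0 ≤ Γc ξ)
    (hfinite : ∀ ξ, Γc ξ ≠ 0 → IsFinite (compι ξ ≫ pullback.snd p q))
    (hflat : ∀ ξ, Γc ξ ≠ 0 → Flat (compι ξ ≫ pullback.snd p q))
    (hfree : ∀ ξ, Γc ξ ≠ 0 → letI := H23.CoverPush.alg (compι ξ ≫ pullback.snd p q) W0
      Module.Free Γ(W, W0) Γ(comp ξ, (compι ξ ≫ pullback.snd p q) ⁻¹ᵁ W0) ∧
        Module.Finite Γ(W, W0) Γ(comp ξ, (compι ξ ≫ pullback.snd p q) ⁻¹ᵁ W0))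
    (hdeg : ∀ (u : Spec (CommRingCat.of k) ⟶ W) (hu : u ≫ q = 𝟙 _),
      ∑ᶠ x, AlgEqCyc.fibreFun p q Γc u hu x = (d : ℤ)) :
    ∃ F : W0.toScheme ⟶ Sy, F ≫ g = W0.ι ≫ q ∧
      ∀ (u0 : Spec (CommRingCat.of k) ⟶ W0.toScheme) (hu : (u0 ≫ W0.ι) ≫ q = 𝟙 _),
        ZCorr.IsCycleOfSymPt p d qS (u0 ≫ F) (AlgEqCyc.fibreFun p q Γc (u0 ≫ W0.ι) hu) := by
  classical
  let π := pullback.snd p q
  let R := Γ(W, W0)
  let αk : CommRingCat.of k ⟶ R := Spec.preimage (hW0.fromSpec ≫ q)
  letI : Algebra k R := αk.hom.toAlgebra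
  haveI : CharZero R := charZero_of_injective_algebraMap (algebraMap k R).injective
  haveI := hR
  -- the components
  let ι := {ξ : ↥(pullback p q) // Γc ξ ≠ 0}
  haveI : Finite ι := hsupp.to_subtype
  haveI : Fintype ι := Fintype.ofFinite ι
  let f : ∀ j : ι, comp j.1 ⟶ W := fun j => compι j.1 ≫ π
  haveI : ∀ j, IsFinite (f j) := fun j => hfinite j.1 j.2
  haveI : ∀ j, Flat (f j) := fun j => hflat j.1 j.2
  let V : ∀ j : ι, (comp j.1).Opens := fun j => f j ⁻¹ᵁ W0
  have hV : ∀ j, IsAffineOpen (V j) := fun j => hW0.preimage (f j)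
  haveI : ∀ j, Nonempty (V j) := fun j => ⟨⟨genericPoint (comp j.1), by
    show f j (genericPoint (comp j.1)) ∈ W0
    rw [genericPoint_map]
    obtain ⟨⟨w, hw⟩⟩ := ‹Nonempty W0›
    exact ((genericPoint_specializes w).mem_open W0.2 hw)⟩⟩
  let C : ι → Type u := fun j => Γ(comp j.1, V j)
  letI : ∀ j, CommRing (C j) := fun j => inferInstanceAs (CommRing Γ(comp j.1, V j))
  haveI : ∀ j, IsDomain (C j) := fun j => inferInstanceAs (IsDomain Γ(comp j.1, V j))
  letI : ∀ j, Algebra R (C j) := fun j => H23.CoverPush.alg (f j) W0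
  haveI : ∀ j, Module.Free R (C j) := fun j => (hfree j.1 j.2).1
  haveI : ∀ j, Module.Finite R (C j) := fun j => (hfree j.1 j.2).2
  obtain ⟨R', _, _, _, G, _, _, _, _, hint, hinj, hinv, hsplit⟩ := exists_splitting (R := R) C
  haveI := hint
  haveI := hinv
  haveI : FaithfulSMul R R' := (faithfulSMul_iff_algebraMap_injective R R').2 hinj
  haveI : ∀ j, Finite (C j →ₐ[R] R') := fun j => (hsplit j).1
  -- indices and coordinates
  let Idx := Σ j : ι, Fin (Γc j.1).toNat × (C j →ₐ[R] R')
  haveI : Fintype Idx := Fintype.ofFinite Idx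
  let sT : ∀ i : Idx, Spec (CommRingCat.of R') ⟶ comp i.1.1 := fun i =>
    Spec.map (CommRingCat.ofHom (i.2.2 : C i.1 →+* R')) ≫ (hV i.1).fromSpec
  let sR : Spec (CommRingCat.of R') ⟶ W :=
    Spec.map (CommRingCat.ofHom (algebraMap R R')) ≫ hW0.fromSpec
  have hsT : ∀ i, sT i ≫ f i.1 = sR := by
    intro i
    rw [show sT i ≫ f i.1 = Spec.map (CommRingCat.ofHom (i.2.2 : C i.1 →+* R')) ≫
        (hV i.1).fromSpec ≫ f i.1 from Category.assoc _ _ _,
      ← IsAffineOpen.SpecMap_appLE_fromSpec (f i.1) hW0 (hV i.1) le_rfl, ← Category.assoc,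
      ← Spec.map_comp, ← Scheme.Hom.app_eq_appLE]
    exact congrArg (fun φ => Spec.map φ ≫ hW0.fromSpec)
      (CommRingCat.hom_ext (i.2.2.comp_algebraMap))
  let hc : Idx → (Spec (CommRingCat.of R') ⟶ X) := fun i =>
    sT i ≫ compι i.1.1 ≫ pullback.fst p q
  have hcp : ∀ i, hc i ≫ p = sR ≫ q := fun i => by
    rw [← hsT i]
    simp only [hc, f, π, Category.assoc, pullback.condition]
  -- counting
  have count : ∀ (u : Spec (CommRingCat.of k) ⟶ W) (hu : u ≫ q = 𝟙 _) (χ : R' →+* k)
      (hχ : Spec.map (CommRingCat.ofHom χ) ≫ sR = u) (x : X),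
      AlgEqCyc.fibreFun p q Γc u hu x =
        (Nat.card {i : Idx // (Spec.map (CommRingCat.ofHom χ) ≫ hc i) (IsLocalRing.closedPoint k) = x} : ℤ) := by
    intro u hu χ hχ x
    let v := AlgEqCyc.slice p q u hu x
    let pt : ↥(Spec (CommRingCat.of k)) := IsLocalRing.closedPoint k
    have e1 : pullback.fst p q v = x := by
      rw [← Scheme.Hom.comp_apply, AlgEqCyc.slice, pullback.lift_fst]; rfl
    have e2 : π v = u pt := by
      rw [← Scheme.Hom.comp_apply, AlgEqCyc.slice, pullback.lift_snd]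
      exact congrArg u (Subsingleton.elim (α := PrimeSpectrum k) _ _)
    let e' : R →+* k := χ.comp (algebraMap R R')
    have he' : Spec.map (CommRingCat.ofHom e') ≫ hW0.fromSpec = u := by
      rw [← hχ, CommRingCat.ofHom_comp, Spec.map_comp, Category.assoc]
    have hek : e'.comp (algebraMap k R) = RingHom.id k := by
      have : Spec.map (αk ≫ CommRingCat.ofHom e') = 𝟙 _ := by
        rw [Spec.map_comp, Spec.map_preimage, ← Category.assoc, he', hu]
      exact congrArg CommRingCat.Hom.hom (Spec.map_injective (this.trans (Spec.map_id _).symm))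
    let e : R →ₐ[k] k := { e' with commutes' := fun c => RingHom.congr_fun hek c }
    let z : ∀ i : Idx, comp i.1.1 := fun i => (Spec.map (CommRingCat.ofHom χ) ≫ sT i) pt
    have hz : ∀ i, ((Spec.map (CommRingCat.ofHom χ) ≫ hc i) pt = x ↔ compι i.1.1 (z i) = v) := by
      intro i
      let y := Spec.map (CommRingCat.ofHom χ) ≫ hc i
      have hy : y ≫ p = 𝟙 _ := by
        show (Spec.map (CommRingCat.ofHom χ) ≫ hc i) ≫ p = 𝟙 _
        rw [Category.assoc, hcp, ← Category.assoc, hχ, hu]
      have he : (Spec.map (CommRingCat.ofHom χ) ≫ sT i) ≫ compι i.1.1 = y ≫ AlgEqCyc.slice p q u hu := by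
        apply pullback.hom_ext
        · rw [Category.assoc _ (AlgEqCyc.slice p q u hu), AlgEqCyc.slice, pullback.lift_fst,
            Category.comp_id]
          simp only [y, hc, Category.assoc]
        · rw [Category.assoc _ (AlgEqCyc.slice p q u hu), AlgEqCyc.slice, pullback.lift_snd,
            ← Category.assoc y, hy, Category.id_comp]
          simp only [Category.assoc]
          rw [show sT i ≫ compι i.1.1 ≫ pullback.snd p q = sR from hsT i]
          exact hχ
      have hpt : compι i.1.1 (z i) = AlgEqCyc.slice p q u hu (y pt) :=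
        congrArg (fun φ => φ pt) he
      refine ⟨fun h => hpt.trans (congrArg _ h), fun h => ?_⟩
      have h2 : pullback.fst p q (compι i.1.1 (z i)) = y pt := by
        rw [hpt, ← Scheme.Hom.comp_apply, AlgEqCyc.slice, pullback.lift_fst]; rfl
      rw [h, e1] at h2
      exact h2.symm
    have hcomp : ∀ j : ι, j.1 ⤳ v → ∀ h : j.1 ⤳ v,
        Nat.card {σ : C j →ₐ[R] R' //
            compι j.1 ((Spec.map (CommRingCat.ofHom χ) ≫
              Spec.map (CommRingCat.ofHom (σ : C j →+* R')) ≫ (hV j).fromSpec) pt) = v} =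
          AlgEqCyc.fibreMult π v j.1 h := by
      intro j hj h
      obtain ⟨w, hw⟩ : v ∈ Set.range (compι j.1) := by
        rw [range_compι]; exact specializes_iff_mem_closure.1 hj
      have hfw : f j w = u pt := by
        rw [← e2, ← hw]; rfl
      have huW : u pt ∈ W0 := by
        rw [← he']
        exact hW0.range_fromSpec.le ⟨_, rfl⟩
      have hwV : w ∈ V j := by show f j w ∈ W0; rw [hfw]; exact huW
      have hwW : f j w ∈ W0 := hwV
      let Q := (hV j).primeIdealOf ⟨w, hwV⟩
      have hkerW : (hW0.primeIdealOf ⟨f j w, hwW⟩).asIdeal = RingHom.ker e' := by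
        have : hW0.primeIdealOf ⟨f j w, hwW⟩ = Spec.map (CommRingCat.ofHom e') pt := by
          apply hW0.fromSpec.isOpenEmbedding.injective
          exact (hW0.fromSpec_primeIdealOf _).trans
            (hfw.trans (congrArg (fun φ => φ pt) he'.symm))
        rw [this]
        show Ideal.comap e' (IsLocalRing.maximalIdeal k) = _
        rw [IsLocalRing.isField_iff_maximalIdeal_eq.1 (Field.toIsField k)]
        rfl
      have hQ : (RingHom.ker e).map (algebraMap R (C j)) ≤ Q.asIdeal := by
        have hprime : hW0.primeIdealOf ⟨f j w, hwW⟩ = Spec.map ((f j).app W0) Q := by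
          apply hW0.fromSpec.isOpenEmbedding.injective
          rw [Scheme.Hom.app_eq_appLE]
          exact (hW0.fromSpec_primeIdealOf _).trans
            ((congrArg (f j) ((hV j).fromSpec_primeIdealOf ⟨w, hwV⟩)).symm.trans
              (congrArg (fun φ => φ Q)
                (IsAffineOpen.SpecMap_appLE_fromSpec (f j) hW0 (hV j) le_rfl)).symm)
        refine Ideal.map_le_iff_le_comap.2 ?_
        rw [show RingHom.ker e = RingHom.ker e' from rfl, ← hkerW, hprime]
        exact le_rfl
      haveI : Fintype (C j →ₐ[R] R') := Fintype.ofFinite _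
      let ψ : (C j →ₐ[R] R') → C j →+* k := fun σ => χ.comp (σ : C j →+* R')
      let S := (comp j.1).presheaf.stalk w
      letI : Algebra (C j) S := TopCat.Presheaf.algebra_section_stalk (comp j.1).presheaf ⟨w, hwV⟩
      haveI : IsLocalization.AtPrime S Q.asIdeal := (hV j).isLocalization_stalk ⟨w, hwV⟩
      have main := card_eq_length e ψ (fun σ r => congrArg χ (σ.commutes r))
        (fun b => by
          show χ (algebraMap R R' (Algebra.trace R (C j) b)) = _
          rw [(hsplit j).2 b, finsum_eq_sum_of_fintype, map_sum]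
          rfl) Q.asIdeal hQ S
      have hset : ∀ σ : C j →ₐ[R] R', (compι j.1 ((Spec.map (CommRingCat.ofHom χ) ≫
              Spec.map (CommRingCat.ofHom (σ : C j →+* R')) ≫ (hV j).fromSpec) pt) = v) ↔
          RingHom.ker (ψ σ) = Q.asIdeal := by
        intro σ
        rw [← hw, (compι j.1).isClosedEmbedding.injective.eq_iff, ← Category.assoc,
          Scheme.Hom.comp_apply, ← Spec.map_comp]
        have hcl : (Spec.map (CommRingCat.ofHom (σ : C j →+* R') ≫ CommRingCat.ofHom χ) pt).asIdeal =
            RingHom.ker (ψ σ) := by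
          show Ideal.comap (ψ σ) (IsLocalRing.maximalIdeal k) = _
          rw [IsLocalRing.isField_iff_maximalIdeal_eq.1 (Field.toIsField k)]
          rfl
        constructor
        · intro h'
          rw [← hcl]
          congr 1
          apply (hV j).fromSpec.isOpenEmbedding.injective
          rw [(hV j).fromSpec_primeIdealOf]
          exact h'
        · intro h'
          rw [← hcl] at h'
          rw [PrimeSpectrum.ext h']
          exact (hV j).fromSpec_primeIdealOf ⟨w, hwV⟩
      rw [Nat.card_congr (Equiv.subtypeEquivRight hset), main]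
      have hgen : compι j.1 (genericPoint (comp j.1)) ⤳ compι j.1 w :=
        (genericPoint_specializes w).map (compι j.1).continuous
      have hfm : AlgEqCyc.fibreMult π v j.1 h =
          AlgEqCyc.fibreMult π (compι j.1 w) (compι j.1 (genericPoint (comp j.1))) hgen := by
        have aux : ∀ a a' b b' (ha : b ⤳ a) (ha' : b' ⤳ a'), a = a' → b = b' →
            AlgEqCyc.fibreMult π a b ha = AlgEqCyc.fibreMult π a' b' ha' := by
          rintro a a' b b' ha ha' rfl rfl; rfl
        exact aux _ _ _ _ _ _ hw.symm (compι_genericPoint j.1).symm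
      rw [hfm, fibreMult_eq_length]
      refine congrArg (fun I : Ideal S => (Module.length S (S ⧸ I)).toNat) ?_
      rw [← Ideal.map_map]
      letI : Algebra R (W.presheaf.stalk (f j w)) :=
        TopCat.Presheaf.algebra_section_stalk W.presheaf ⟨f j w, hwW⟩
      haveI : IsLocalization.AtPrime (W.presheaf.stalk (f j w)) (hW0.primeIdealOf ⟨f j w, hwW⟩).asIdeal :=
        hW0.isLocalization_stalk ⟨f j w, hwW⟩
      have hm : (RingHom.ker e).map (W.presheaf.germ W0 (f j w) hwW).hom =
          IsLocalRing.maximalIdeal (W.presheaf.stalk (f j w)) := by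
        rw [show RingHom.ker e = RingHom.ker e' from rfl, ← hkerW]
        exact IsLocalization.AtPrime.map_eq_maximalIdeal _ _
      erw [← hm]
      rw [Ideal.map_map, Ideal.map_map, Ideal.map_map]
      congr 1
      have h0 := congrArg CommRingCat.Hom.hom ((compι j.1 ≫ π).germ_stalkMap W0 w hwW)
      rw [Scheme.Hom.stalkMap_comp] at h0
      exact h0.symm
    -- sum over the components
    let c : ι → ℕ := fun j => (Γc j.1).toNat * Nat.card {σ : C j →ₐ[R] R' //
            compι j.1 ((Spec.map (CommRingCat.ofHom χ) ≫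
              Spec.map (CommRingCat.ofHom (σ : C j →+* R')) ≫ (hV j).fromSpec) pt) = v}
    have hL : Nat.card {i : Idx // (Spec.map (CommRingCat.ofHom χ) ≫ hc i) pt = x} = ∑ j, c j := by
      let E : {i : Idx // (Spec.map (CommRingCat.ofHom χ) ≫ hc i) pt = x} ≃
          Σ j : ι, Fin (Γc j.1).toNat × {σ : C j →ₐ[R] R' //
            compι j.1 ((Spec.map (CommRingCat.ofHom χ) ≫
              Spec.map (CommRingCat.ofHom (σ : C j →+* R')) ≫ (hV j).fromSpec) pt) = v} :=
        { toFun := fun i => ⟨i.1.1, i.1.2.1, i.1.2.2, (hz i.1).1 i.2⟩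
          invFun := fun i => ⟨⟨i.1, i.2.1, i.2.2.1⟩, (hz ⟨i.1, i.2.1, i.2.2.1⟩).2 i.2.2.2⟩
          left_inv := fun _ => rfl
          right_inv := fun _ => rfl }
      rw [Nat.card_congr E, Nat.card_sigma]
      refine Finset.sum_congr rfl fun j _ => ?_
      rw [Nat.card_prod, Nat.card_fin]
    have hzero : ∀ j, ¬ j.1 ⤳ v → c j = 0 := by
      intro j hj
      haveI : IsEmpty {σ : C j →ₐ[R] R' //
            compι j.1 ((Spec.map (CommRingCat.ofHom χ) ≫
              Spec.map (CommRingCat.ofHom (σ : C j →+* R')) ≫ (hV j).fromSpec) pt) = v} :=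
        ⟨fun σ => hj (specializes_iff_mem_closure.2 ((range_compι j.1).le ⟨_, σ.2⟩))⟩
      show _ * Nat.card _ = 0
      rw [Nat.card_of_isEmpty, mul_zero]
    rw [hL]
    haveI : Finite {w : ↥(pullback p q) // Γc w ≠ 0 ∧ w ⤳ v} :=
      (hsupp.subset fun w (hw : Γc w ≠ 0 ∧ w ⤳ v) => hw.1).to_subtype
    haveI : Fintype {w : ↥(pullback p q) // Γc w ≠ 0 ∧ w ⤳ v} := Fintype.ofFinite _
    show (∑ᶠ w : {w : ↥(pullback p q) // Γc w ≠ 0 ∧ w ⤳ v},
      Γc w.1 * (AlgEqCyc.fibreMult π v w.1 w.2.2 : ℤ)) = _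
    rw [finsum_eq_sum_of_fintype,
      ← Finset.sum_filter_of_ne (s := Finset.univ) (p := fun j : ι => j.1 ⤳ v) (f := c)
        (fun j _ hne => by by_contra hn; exact hne (hzero j hn)),
      ← Finset.sum_subtype_eq_sum_filter, Finset.subtype_univ, Nat.cast_sum]
    refine Fintype.sum_equiv (Equiv.subtypeSubtypeEquivSubtypeInter (fun w => Γc w ≠ 0)
      (fun w => w ⤳ v)).symm _ _ fun w => ?_
    show _ = (((Γc w.1).toNat * _ : ℕ) : ℤ)
    rw [Nat.cast_mul, Int.toNat_of_nonneg (hΓ0 _)]
    exact congrArg (fun n : ℕ => Γc w.1 * (n : ℤ)) (hcomp ⟨w.1, w.2.1⟩ w.2.2 w.2.2).symm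
  -- lifting points
  have lift : ∀ (u : Spec (CommRingCat.of k) ⟶ W0.toScheme), (u ≫ W0.ι) ≫ q = 𝟙 _ →
      ∃ χ : R' →+* k, Spec.map (CommRingCat.ofHom (χ.comp (algebraMap R R'))) = u ≫ hW0.isoSpec.hom := by
    intro u hu
    let e' : R →+* k := (Spec.preimage (u ≫ hW0.isoSpec.hom)).hom
    have he : Spec.map (CommRingCat.ofHom e') = u ≫ hW0.isoSpec.hom := Spec.map_preimage _
    have hes : Function.Surjective e' := by
      intro c
      refine ⟨αk.hom c, ?_⟩
      have : Spec.map (αk ≫ CommRingCat.ofHom e') = 𝟙 _ := by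
        rw [Spec.map_comp, Spec.map_preimage, he, Category.assoc, hW0.isoSpec_hom_fromSpec_assoc,
          ← Category.assoc, hu]
      exact RingHom.congr_fun (congrArg CommRingCat.Hom.hom
        (Spec.map_injective (this.trans (Spec.map_id _).symm))) c
    haveI : (RingHom.ker e').IsPrime := RingHom.ker_isPrime _
    obtain ⟨M, hM, hMc⟩ := Ideal.exists_ideal_over_prime_of_isIntegral_of_isDomain
      (S := R') (RingHom.ker e')
      (by rw [(RingHom.injective_iff_ker_eq_bot _).1 hinj]; exact bot_le)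
    haveI := hM
    let φ : k →+* R' ⧸ M := (Ideal.Quotient.mk M).comp ((algebraMap R R').comp αk.hom)
    have hek : ∀ c, e' (αk.hom c) = c := fun c => by
      have : Spec.map (αk ≫ CommRingCat.ofHom e') = 𝟙 _ := by
        rw [Spec.map_comp, Spec.map_preimage, he, Category.assoc, hW0.isoSpec_hom_fromSpec_assoc,
          ← Category.assoc, hu]
      exact RingHom.congr_fun (congrArg CommRingCat.Hom.hom
        (Spec.map_injective (this.trans (Spec.map_id _).symm))) c
    have hφe : φ.comp e' = (Ideal.Quotient.mk M).comp (algebraMap R R') := by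
      refine RingHom.ext fun r => (Ideal.Quotient.eq.2 ?_)
      show algebraMap R R' (αk.hom (e' r)) - algebraMap R R' r ∈ M
      rw [← map_sub]
      refine (Ideal.mem_comap.1 (hMc.ge ?_))
      rw [RingHom.mem_ker, map_sub, hek, sub_self]
    have hφ : φ.IsIntegral := by
      intro a
      obtain ⟨a, rfl⟩ := Ideal.Quotient.mk_surjective a
      obtain ⟨P, hP1, hP2⟩ := Algebra.IsIntegral.isIntegral (R := R) a
      refine ⟨P.map e', hP1.map _, ?_⟩
      rw [Polynomial.eval₂_map, hφe, ← Polynomial.hom_eval₂, hP2, map_zero]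
    have hb := IsAlgClosed.ringHom_bijective_of_isIntegral φ hφ
    let E := RingEquiv.ofBijective φ hb
    refine ⟨E.symm.toRingHom.comp (Ideal.Quotient.mk M), ?_⟩
    rw [← he]
    congr 2
    refine RingHom.ext fun r => E.injective ?_
    show E (E.symm (Ideal.Quotient.mk M (algebraMap R R' r))) = φ (e' r)
    rw [E.apply_symm_apply]
    exact (RingHom.congr_fun hφe r).symm
  have hsR : ∀ (u : Spec (CommRingCat.of k) ⟶ W0.toScheme) (χ : R' →+* k),
      Spec.map (CommRingCat.ofHom (χ.comp (algebraMap R R'))) = u ≫ hW0.isoSpec.hom →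
      Spec.map (CommRingCat.ofHom χ) ≫ sR = u ≫ W0.ι := by
    intro u χ h
    rw [CommRingCat.ofHom_comp, Spec.map_comp] at h
    rw [← hW0.isoSpec_hom_fromSpec, ← Category.assoc _ hW0.isoSpec.hom, ← h, Category.assoc]
  -- the number of indices
  have hcard : Fintype.card Idx = d := by
    haveI : JacobsonSpace W := LocallyOfFiniteType.jacobsonSpace q
    obtain ⟨w, hw⟩ := ‹Nonempty W0›
    obtain ⟨w', hw'W, hw'c⟩ := nonempty_inter_closedPoints (Z := (W0 : Set W)) ⟨w, hw⟩ W0.2.isLocallyClosed
    let u := pointOfClosedPoint q w' hw'c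
    have hu : u ≫ q = 𝟙 _ := pointOfClosedPoint_comp q w' hw'c
    have hur : Set.range u ⊆ Set.range W0.ι := by
      rintro _ ⟨a, rfl⟩
      rw [Scheme.Opens.range_ι, pointOfClosedPoint_apply]
      exact hw'W
    let u0 := IsOpenImmersion.lift W0.ι u hur
    have hu0 : u0 ≫ W0.ι = u := IsOpenImmersion.lift_fac _ _ _
    have hu0' : (u0 ≫ W0.ι) ≫ q = 𝟙 _ := by rw [hu0, hu]
    obtain ⟨χ, hχ⟩ := lift u0 hu0'
    have h := hdeg _ hu0'
    simp only [count _ hu0' χ (hsR u0 χ hχ)] at h
    let pts : Idx → X := fun i => (Spec.map (CommRingCat.ofHom χ) ≫ hc i) (IsLocalRing.closedPoint k)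
    rw [finsum_eq_sum_of_support_subset (s := Finset.univ.image pts) _ (fun x hx => by
      simp only [Function.mem_support, ne_eq, Nat.cast_eq_zero] at hx
      obtain ⟨⟨i, hi⟩⟩ : Nonempty {i // pts i = x} := not_isEmpty_iff.1 fun hE => hx (by
        rw [Nat.card_of_isEmpty])
      exact Finset.mem_coe.2 (Finset.mem_image.2 ⟨i, Finset.mem_univ _, hi⟩))] at h
    rw [← Nat.cast_sum, Nat.cast_inj] at h
    rw [← h, ← Finset.card_univ, Finset.card_eq_sum_card_image pts Finset.univ]
    refine Finset.sum_congr rfl fun x _ => ?_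
    rw [Nat.card_eq_fintype_card, Fintype.card_subtype]
  let eIdx : Fin d ≃ Idx := (Fintype.equivFinOfCardEq hcard).symm
  let t : Spec (CommRingCat.of R') ⟶ SymProd.fibPow p d :=
    WidePullback.lift (sR ≫ q) (fun i => hc (eIdx i)) fun i => hcp _
  -- invariance
  let ρ : G →* Aut (Spec (CommRingCat.of R')) :=
    { toFun := fun γ =>
        { hom := Spec.map (CommRingCat.ofHom (MulSemiringAction.toRingHom G R' γ⁻¹))
          inv := Spec.map (CommRingCat.ofHom (MulSemiringAction.toRingHom G R' γ))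
          hom_inv_id := by
            rw [← Spec.map_comp, ← Spec.map_id]
            congr 1
            ext a
            exact inv_smul_smul γ a
          inv_hom_id := by
            rw [← Spec.map_comp, ← Spec.map_id]
            congr 1
            ext a
            exact smul_inv_smul γ a }
      map_one' := Iso.ext (by
        show Spec.map _ = 𝟙 _
        rw [← Spec.map_id]
        congr 1
        ext a
        show (1 : G)⁻¹ • a = a
        rw [inv_one, one_smul])
      map_mul' := fun γ γ' => Iso.ext (by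
        rw [Aut.Aut_mul_def]
        show Spec.map _ = Spec.map _ ≫ Spec.map _
        rw [← Spec.map_comp]
        congr 1
        ext a
        show (γ * γ')⁻¹ • a = γ'⁻¹ • γ⁻¹ • a
        rw [mul_inv_rev, mul_smul]) }
  have hρ : Set.range (fun γ : G => (ρ γ).hom) =
      Set.range (fun γ : G => Spec.map (CommRingCat.ofHom (MulSemiringAction.toRingHom G R' γ))) :=
    Set.ext fun φ => ⟨fun ⟨γ, h⟩ => ⟨γ⁻¹, h⟩, fun ⟨γ, h⟩ => ⟨γ⁻¹, by
      simpa only [ρ, MonoidHom.coe_mk, OneHom.coe_mk, inv_inv] using h⟩⟩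
  have hquot := SGA1Q.isQuot_Spec G R' R ρ hρ
  have htinv : ∀ γ : G, (ρ γ).hom ≫ t ≫ qS = t ≫ qS := by
    intro γ
    let σg : Idx ≃ Idx := Equiv.sigmaCongrRight fun j => Equiv.prodCongr (Equiv.refl _)
      (AlgEquiv.arrowCongr AlgEquiv.refl (MulSemiringAction.toAlgEquiv R R' γ⁻¹))
    let π' : Equiv.Perm (Fin d) := (eIdx.trans (σg.trans eIdx.symm)).symm
    have : (ρ γ).hom ≫ t = t ≫ SymProd.permHom p d π' := by
      apply WidePullback.hom_ext
      · intro i
        simp only [Category.assoc, SymProd.permHom_π, t, WidePullback.lift_π]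
        show _ = hc (eIdx (eIdx.symm (σg (eIdx i))))
        rw [Equiv.apply_symm_apply]
        simp only [hc, sT, ← Category.assoc]
        congr 3
        show Spec.map _ ≫ Spec.map _ = Spec.map _
        rw [← Spec.map_comp]
        rfl
      · simp only [Category.assoc, SymProd.permHom_base, t, WidePullback.lift_base]
        simp only [sR, ← Category.assoc]
        congr 2
        show Spec.map _ ≫ Spec.map _ = Spec.map _
        rw [← Spec.map_comp]
        congr 1
        ext r
        exact (MulSemiringAction.toAlgEquiv R R' γ⁻¹).commutes r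
    rw [← Category.assoc, this, Category.assoc]
    exact congrArg (t ≫ ·) (hS.isQuot.inv ⟨π'⟩)
  obtain ⟨h', hh', -⟩ := SGA1Q.desc_existsUnique_isQuot hquot (t ≫ qS) htinv
  have hh'g : h' ≫ g = hW0.fromSpec ≫ q := by
    refine (SGA1Q.desc_existsUnique_isQuot hquot (sR ≫ q) fun γ => ?_).unique ?_ ?_
    · have h1 := congrArg (· ≫ g) (htinv γ)
      simp only [Category.assoc, hS.over, t, WidePullback.lift_base] at h1
      exact h1
    · rw [← Category.assoc, hh', Category.assoc, hS.over, WidePullback.lift_base]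
    · simp only [sR, Category.assoc]
  refine ⟨hW0.isoSpec.hom ≫ h', by rw [Category.assoc, hh'g, hW0.isoSpec_hom_fromSpec_assoc],
    fun u0 hu => ?_⟩
  obtain ⟨χ, hχ⟩ := lift u0 hu
  refine ⟨Spec.map (CommRingCat.ofHom χ) ≫ t, ?_, fun x => ?_⟩
  · rw [Category.assoc, ← hh', ← Category.assoc, ← Spec.map_comp, ← CommRingCat.ofHom_comp, hχ,
      Category.assoc]
  · rw [count _ hu χ (hsR u0 χ hχ) x]
    congr 1
    refine Nat.card_congr ((eIdx.subtypeEquiv fun i => ?_).symm)
    simp only [t, Category.assoc, WidePullback.lift_π]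

end Groth.Agent.ZBCorrPt
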