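import Groth.Agent.ZBCorrPt.Fibre
import Groth.Agent.ZBCorrPt.Galois
import Groth.Agent.ZBCorrPt.Comp
import Groth.Prelude.Def_AlgEqCyc

/-!
# Points of a component over a rational point, counted in an integral extension
-/

set_option autoImplicit false
set_option backward.isDefEq.respectTransparency false
set_option backward.isDefEq.respectTransparency.types false
set_option maxHeartbeats 1000000

universe u

open CategoryTheory CategoryTheory.Limits AlgebraicGeometry TopologicalSpace
open scoped nonZeroDivisors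

noncomputable section

namespace Groth.Agent.ZBCorrPt

attribute [local instance] FractionRing.liftAlgebra FractionRing.isScalarTower_liftAlgebra

/-- The trace of a finite free domain is the sum of its points in the integral closure of the base in an
algebraically closed field. -/
theorem trace_eq_sum_integralClosure {R C Ω : Type u} [CommRing R] [IsDomain R] [CharZero R] [CommRing C]
    [IsDomain C] [Algebra R C] [Module.Free R C] [Module.Finite R C] [Field Ω] [IsAlgClosed Ω] [Algebra R Ω]
    [FaithfulSMul R Ω] :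
    Finite (C →ₐ[R] integralClosure R Ω) ∧
      ∀ b : C, algebraMap R (integralClosure R Ω) (Algebra.trace R C b) =
        ∑ᶠ σ : C →ₐ[R] integralClosure R Ω, σ b := by
  classical
  let F := FractionRing R
  haveI : Algebra.IsIntegral R C := inferInstance
  haveI : FaithfulSMul R C := inferInstance
  haveI : IsLocalization (Algebra.algebraMapSubmonoid C R⁰) (FractionRing C) :=
    isLocalization_fractionRing_of_integral
  let L := FractionRing C
  haveI : FiniteDimensional F L := Module.Finite.of_isLocalization R C R⁰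
  haveI : CharZero F := charZero_of_injective_algebraMap (IsFractionRing.injective R F)
  let Φ : (L →ₐ[F] Ω) → (C →ₐ[R] integralClosure R Ω) := fun σ =>
    AlgHom.codRestrict ((σ.restrictScalars R).comp (IsScalarTower.toAlgHom R C L)) (integralClosure R Ω)
      fun c => (Algebra.IsIntegral.isIntegral c).map _
  have hΦ : ∀ σ c, ((Φ σ c : integralClosure R Ω) : Ω) = σ (algebraMap C L c) := fun σ c => rfl
  have hΦi : Function.Injective Φ := fun σ σ' h => by
    refine AlgHom.coe_ringHom_injective (IsLocalization.ringHom_ext C⁰ (RingHom.ext fun c => ?_))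
    exact ((hΦ σ c).symm.trans (by rw [h])).trans (hΦ σ' c)
  have hΦs : Function.Surjective Φ := fun τ => by
    let τΩ : C →ₐ[R] Ω := (integralClosure R Ω).val.comp τ
    have hτ : Function.Injective τΩ := by
      have hker : RingHom.ker τΩ = ⊥ := by
        haveI : (RingHom.ker τΩ).IsPrime := RingHom.ker_isPrime _
        refine Ideal.eq_bot_of_comap_eq_bot (R := R) ?_
        refine le_bot_iff.1 fun r hr => ?_
        rw [Ideal.mem_comap, RingHom.mem_ker, AlgHom.commutes] at hr
        exact (map_eq_zero_iff _ (FaithfulSMul.algebraMap_injective R Ω)).1 hr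
      exact (RingHom.injective_iff_ker_eq_bot τΩ.toRingHom).2 hker
    let σR : L →ₐ[R] Ω := IsFractionRing.liftAlgHom hτ
    let σ : L →ₐ[F] Ω :=
      { σR.toRingHom with
        commutes' := fun c => by
          obtain ⟨a, s, rfl⟩ := IsLocalization.exists_mk'_eq R⁰ c
          have hs : (algebraMap F Ω (algebraMap R F s)) ≠ 0 :=
            (map_ne_zero (algebraMap F Ω)).2
              (IsFractionRing.to_map_ne_zero_of_mem_nonZeroDivisors s.2)
          refine mul_right_cancel₀ hs ?_
          show σR (algebraMap F L _) * _ = _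
          rw [← map_mul (algebraMap F Ω), IsLocalization.mk'_spec, ← IsScalarTower.algebraMap_apply,
            ← IsScalarTower.algebraMap_apply R F Ω, ← σR.commutes (s : R), ← map_mul,
            IsScalarTower.algebraMap_apply R F L, ← map_mul, IsLocalization.mk'_spec,
            ← IsScalarTower.algebraMap_apply, σR.commutes] }
    refine ⟨σ, AlgHom.ext fun c => Subtype.ext ?_⟩
    rw [hΦ]
    show IsFractionRing.liftAlgHom hτ (algebraMap C L c) = _
    rw [IsFractionRing.liftAlgHom_apply, IsFractionRing.lift_algebraMap]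
    rfl
  haveI : Finite (C →ₐ[R] integralClosure R Ω) := Finite.of_surjective Φ hΦs
  refine ⟨inferInstance, fun b => ?_⟩
  letI := Fintype.ofFinite (C →ₐ[R] integralClosure R Ω)
  rw [finsum_eq_sum_of_fintype, ← (Equiv.ofBijective Φ ⟨hΦi, hΦs⟩).sum_comp]
  refine Subtype.val_injective ?_
  have h1 : algebraMap F Ω (Algebra.trace F L (algebraMap C L b)) =
      ∑ σ : L →ₐ[F] Ω, σ (algebraMap C L b) := trace_eq_sum_embeddings Ω
  rw [Algebra.trace_localization R R⁰, ← IsScalarTower.algebraMap_apply] at h1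
  simp only [AddSubmonoidClass.coe_finsetSum, Equiv.ofBijective_apply, hΦ]
  exact h1

variable {k : Type u} [Field k] [IsAlgClosed k] [CharZero k]
variable {P W : Scheme.{u}}

/-- The points of a component with a trace formula over a rational point of the base are counted by the
multiplicity of the fibre. -/
theorem card_points_eq_fibreMult (q : W ⟶ Spec (CommRingCat.of k)) (π : P ⟶ W) (ξ : P) {W0 : W.Opens}
    (hW0 : IsAffineOpen W0) [IsFinite (compι ξ ≫ π)]
    (hfree : letI := H23.CoverPush.alg (compι ξ ≫ π) W0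
      Module.Free Γ(W, W0) Γ(comp ξ, (compι ξ ≫ π) ⁻¹ᵁ W0) ∧
        Module.Finite Γ(W, W0) Γ(comp ξ, (compι ξ ≫ π) ⁻¹ᵁ W0))
    {R' : Type u} [CommRing R'] [IsDomain R'] [Algebra Γ(W, W0) R']
    (hfin : letI := H23.CoverPush.alg (compι ξ ≫ π) W0
      Finite (Γ(comp ξ, (compι ξ ≫ π) ⁻¹ᵁ W0) →ₐ[Γ(W, W0)] R'))
    (htr : letI := H23.CoverPush.alg (compι ξ ≫ π) W0
      ∀ b : Γ(comp ξ, (compι ξ ≫ π) ⁻¹ᵁ W0),
        algebraMap Γ(W, W0) R' (Algebra.trace Γ(W, W0) Γ(comp ξ, (compι ξ ≫ π) ⁻¹ᵁ W0) b) =
          ∑ᶠ σ : Γ(comp ξ, (compι ξ ≫ π) ⁻¹ᵁ W0) →ₐ[Γ(W, W0)] R', σ b)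
    (u : Spec (CommRingCat.of k) ⟶ W) (hu : u ≫ q = 𝟙 _) (χ : R' →+* k)
    (hχ : Spec.map (CommRingCat.ofHom (χ.comp (algebraMap Γ(W, W0) R'))) ≫ hW0.fromSpec = u)
    (v : P) (hv : π v = u (IsLocalRing.closedPoint k)) (h : ξ ⤳ v) :
    letI := H23.CoverPush.alg (compι ξ ≫ π) W0
    Nat.card {σ : Γ(comp ξ, (compι ξ ≫ π) ⁻¹ᵁ W0) →ₐ[Γ(W, W0)] R' //
        compι ξ ((Spec.map (CommRingCat.ofHom χ) ≫
          Spec.map (CommRingCat.ofHom (σ : Γ(comp ξ, (compι ξ ≫ π) ⁻¹ᵁ W0) →+* R')) ≫
            (hW0.preimage (compι ξ ≫ π)).fromSpec) (IsLocalRing.closedPoint k)) = v} =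
      AlgEqCyc.fibreMult π v ξ h := by
  classical
  let R := Γ(W, W0)
  let f := compι ξ ≫ π
  let V : (comp ξ).Opens := f ⁻¹ᵁ W0
  have hV : IsAffineOpen V := hW0.preimage f
  let C := Γ(comp ξ, V)
  letI : Algebra R C := H23.CoverPush.alg f W0
  obtain ⟨_, _⟩ := hfree
  haveI : Module.Free R C := ‹_›
  haveI : Module.Finite R C := ‹_›
  haveI : Finite (C →ₐ[R] R') := hfin
  let pt : ↥(Spec (CommRingCat.of k)) := IsLocalRing.closedPoint k
  let αk : CommRingCat.of k ⟶ R := Spec.preimage (hW0.fromSpec ≫ q)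
  letI : Algebra k R := αk.hom.toAlgebra
  let e' : R →+* k := χ.comp (algebraMap R R')
  have he' : Spec.map (CommRingCat.ofHom e') ≫ hW0.fromSpec = u := hχ
  have hek : e'.comp (algebraMap k R) = RingHom.id k := by
    have : Spec.map (αk ≫ CommRingCat.ofHom e') = 𝟙 _ := by
      rw [Spec.map_comp, Spec.map_preimage, ← Category.assoc, he', hu]
    exact congrArg CommRingCat.Hom.hom (Spec.map_injective (this.trans (Spec.map_id _).symm))
  let e : R →ₐ[k] k := { e' with commutes' := fun c => RingHom.congr_fun hek c }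
  obtain ⟨w, hw⟩ : v ∈ Set.range (compι ξ) := by
    rw [range_compι]; exact specializes_iff_mem_closure.1 h
  have hfw : f w = u pt := by
    rw [← hv, ← hw]; rfl
  have huW : u pt ∈ W0 := by
    rw [← he']
    exact hW0.range_fromSpec.le ⟨_, rfl⟩
  have hwV : w ∈ V := by show f w ∈ W0; rw [hfw]; exact huW
  have hwW : f w ∈ W0 := hwV
  let Q := hV.primeIdealOf ⟨w, hwV⟩
  have hkerW : (hW0.primeIdealOf ⟨f w, hwW⟩).asIdeal = RingHom.ker e' := by
    have : hW0.primeIdealOf ⟨f w, hwW⟩ = Spec.map (CommRingCat.ofHom e') pt := by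
      apply hW0.fromSpec.isOpenEmbedding.injective
      exact (hW0.fromSpec_primeIdealOf _).trans
        (hfw.trans (congrArg (fun φ => φ pt) he'.symm))
    rw [this]
    show Ideal.comap e' (IsLocalRing.maximalIdeal k) = _
    rw [IsLocalRing.isField_iff_maximalIdeal_eq.1 (Field.toIsField k)]
    rfl
  have hQ : (RingHom.ker e).map (algebraMap R C) ≤ Q.asIdeal := by
    have hprime : hW0.primeIdealOf ⟨f w, hwW⟩ = Spec.map (f.app W0) Q := by
      apply hW0.fromSpec.isOpenEmbedding.injective
      rw [Scheme.Hom.app_eq_appLE]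
      exact (hW0.fromSpec_primeIdealOf _).trans
        ((congrArg f (hV.fromSpec_primeIdealOf ⟨w, hwV⟩)).symm.trans
          (congrArg (fun φ => φ Q)
            (IsAffineOpen.SpecMap_appLE_fromSpec f hW0 hV le_rfl)).symm)
    refine Ideal.map_le_iff_le_comap.2 ?_
    rw [show RingHom.ker e = RingHom.ker e' from rfl, ← hkerW, hprime]
    exact le_rfl
  haveI : Fintype (C →ₐ[R] R') := Fintype.ofFinite _
  let ψ : (C →ₐ[R] R') → C →+* k := fun σ => χ.comp (σ : C →+* R')
  let S := (comp ξ).presheaf.stalk w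
  letI : Algebra C S := TopCat.Presheaf.algebra_section_stalk (comp ξ).presheaf ⟨w, hwV⟩
  haveI : IsLocalization.AtPrime S Q.asIdeal := hV.isLocalization_stalk ⟨w, hwV⟩
  have main := card_eq_length e ψ (fun σ r => congrArg χ (σ.commutes r))
    (fun b => by
      show χ (algebraMap R R' (Algebra.trace R C b)) = _
      rw [htr b, finsum_eq_sum_of_fintype, map_sum]
      rfl) Q.asIdeal hQ S
  have hset : ∀ σ : C →ₐ[R] R', (compι ξ ((Spec.map (CommRingCat.ofHom χ) ≫
          Spec.map (CommRingCat.ofHom (σ : C →+* R')) ≫ hV.fromSpec) pt) = v) ↔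
      RingHom.ker (ψ σ) = Q.asIdeal := by
    intro σ
    rw [← hw, (compι ξ).isClosedEmbedding.injective.eq_iff, ← Category.assoc,
      Scheme.Hom.comp_apply, ← Spec.map_comp]
    have hcl : (Spec.map (CommRingCat.ofHom (σ : C →+* R') ≫ CommRingCat.ofHom χ) pt).asIdeal =
        RingHom.ker (ψ σ) := by
      show Ideal.comap (ψ σ) (IsLocalRing.maximalIdeal k) = _
      rw [IsLocalRing.isField_iff_maximalIdeal_eq.1 (Field.toIsField k)]
      rfl
    constructor
    · intro h'
      rw [← hcl]
      congr 1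
      apply hV.fromSpec.isOpenEmbedding.injective
      rw [hV.fromSpec_primeIdealOf]
      exact h'
    · intro h'
      rw [← hcl] at h'
      rw [PrimeSpectrum.ext h']
      exact hV.fromSpec_primeIdealOf ⟨w, hwV⟩
  rw [Nat.card_congr (Equiv.subtypeEquivRight hset), main]
  have hgen : compι ξ (genericPoint (comp ξ)) ⤳ compι ξ w :=
    (genericPoint_specializes w).map (compι ξ).continuous
  have hfm : AlgEqCyc.fibreMult π v ξ h =
      AlgEqCyc.fibreMult π (compι ξ w) (compι ξ (genericPoint (comp ξ))) hgen := by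
    have aux : ∀ a a' b b' (ha : b ⤳ a) (ha' : b' ⤳ a'), a = a' → b = b' →
        AlgEqCyc.fibreMult π a b ha = AlgEqCyc.fibreMult π a' b' ha' := by
      rintro a a' b b' ha ha' rfl rfl; rfl
    exact aux _ _ _ _ _ _ hw.symm (compι_genericPoint ξ).symm
  rw [hfm, fibreMult_eq_length]
  refine congrArg (fun I : Ideal S => (Module.length S (S ⧸ I)).toNat) ?_
  rw [← Ideal.map_map]
  letI : Algebra R (W.presheaf.stalk (f w)) :=
    TopCat.Presheaf.algebra_section_stalk W.presheaf ⟨f w, hwW⟩
  haveI : IsLocalization.AtPrime (W.presheaf.stalk (f w)) (hW0.primeIdealOf ⟨f w, hwW⟩).asIdeal :=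
    hW0.isLocalization_stalk ⟨f w, hwW⟩
  have hm : (RingHom.ker e).map (W.presheaf.germ W0 (f w) hwW).hom =
      IsLocalRing.maximalIdeal (W.presheaf.stalk (f w)) := by
    rw [show RingHom.ker e = RingHom.ker e' from rfl, ← hkerW]
    exact IsLocalization.AtPrime.map_eq_maximalIdeal _ _
  erw [← hm]
  rw [Ideal.map_map, Ideal.map_map, Ideal.map_map]
  congr 1
  have h0 := congrArg CommRingCat.Hom.hom ((compι ξ ≫ π).germ_stalkMap W0 w hwW)
  rw [Scheme.Hom.stalkMap_comp] at h0
  exact h0.symm

end Groth.Agent.ZBCorrPt
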